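import Mathlib
import Cfsg.Agent.H51.ONSeven
import Cfsg.Agent.KFacts.ON.Words_m3
import Cfsg.Agent.H894.J4TwoMain_m3
import Cfsg.Agent.H680.ONThirtyOne_m3
import Cfsg.Agent.FastGrp
import Cfsg.Agent.Prune
set_option linter.all false
open scoped Cfsg.Agent.FastGrp

-- part: H266/ON3/Heis
section
/-!
# The group of order 343 and exponent 7 (helper266)

`H7` : triples `(a, b, k)` over `ZMod 7` with `(a, b, k) (a', b', k') = (a + a', b + b', k + k' - a' b)`;
`phi` : the homomorphism `(a, b, k) ↦ x ^ a y ^ b c ^ k` for `x ^ 7 = y ^ 7 = c ^ 7 = 1`, `x y = c y x`, `c` central.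
-/

set_option autoImplicit false

namespace Cfsg.Agent.H266.ON3

/-- the group of order 343 and exponent 7 -/
@[ext] structure H7 : Type where
  /-- the first coordinate -/
  a : ZMod 7
  /-- the second coordinate -/
  b : ZMod 7
  /-- the central coordinate -/
  k : ZMod 7
  deriving DecidableEq

namespace H7

instance : Mul H7 := ⟨fun g h => ⟨g.a + h.a, g.b + h.b, g.k + h.k - h.a * g.b⟩⟩
instance : One H7 := ⟨⟨0, 0, 0⟩⟩
instance : Inv H7 := ⟨fun g => ⟨-g.a, -g.b, -g.k - g.a * g.b⟩⟩

theorem mul_def (g h : H7) : g * h = ⟨g.a + h.a, g.b + h.b, g.k + h.k - h.a * g.b⟩ := rfl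
theorem one_def : (1 : H7) = ⟨0, 0, 0⟩ := rfl
theorem inv_def (g : H7) : g⁻¹ = ⟨-g.a, -g.b, -g.k - g.a * g.b⟩ := rfl

instance : Group H7 where
  mul_assoc g h j := by
    simp only [mul_def]
    ext <;> ring
  one_mul g := by
    simp only [mul_def, one_def]
    ext <;> simp
  mul_one g := by
    simp only [mul_def, one_def]
    ext <;> simp
  inv_mul_cancel g := by
    simp only [mul_def, inv_def, one_def]
    ext <;> simp
    ring

/-- the coordinates -/
def equiv : H7 ≃ ZMod 7 × ZMod 7 × ZMod 7 where
  toFun g := (g.a, g.b, g.k)
  invFun g := ⟨g.1, g.2.1, g.2.2⟩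
  left_inv _ := rfl
  right_inv _ := rfl

instance : Fintype H7 := Fintype.ofEquiv _ equiv.symm

theorem card : Nat.card H7 = 343 := by
  rw [Nat.card_congr equiv, Nat.card_prod, Nat.card_prod, Nat.card_zmod]

end H7

section phi

variable {G : Type*} [Group G]

/-- powers with exponents in `ZMod 7` -/
def e (g : G) (a : ZMod 7) : G := g ^ a.val

theorem e_add {g : G} (h : g ^ 7 = 1) (a b : ZMod 7) : e g (a + b) = e g a * e g b := by
  unfold e
  rw [← pow_add, ZMod.val_add]
  conv_rhs => rw [← Nat.mod_add_div (a.val + b.val) 7, pow_add, pow_mul, h, one_pow, mul_one]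

theorem e_zero (g : G) : e g 0 = 1 := by
  unfold e
  rw [ZMod.val_zero, pow_zero]

theorem e_one (g : G) : e g 1 = g := by
  unfold e
  rw [show (1 : ZMod 7).val = 1 from rfl, pow_one]

theorem e_neg {g : G} (h : g ^ 7 = 1) (a : ZMod 7) : e g (-a) = (e g a)⁻¹ := by
  rw [eq_inv_iff_mul_eq_one, ← e_add h, neg_add_cancel, e_zero]

theorem e_nat {g : G} (h : g ^ 7 = 1) (n : ℕ) : e g (n : ZMod 7) = g ^ n := by
  unfold e
  rw [ZMod.val_natCast]
  conv_rhs => rw [← Nat.mod_add_div n 7, pow_add, pow_mul, h, one_pow, mul_one]

/-- the relations -/
structure Rel (x y c : G) : Prop where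
  x7 : x ^ 7 = 1
  y7 : y ^ 7 = 1
  c7 : c ^ 7 = 1
  cx : c * x = x * c
  cy : c * y = y * c
  xy : x * y = c * (y * x)

variable {x y c : G}

theorem Rel.yx (h : Rel x y c) (m n : ℕ) : y ^ n * x ^ m * c ^ (m * n) = x ^ m * y ^ n := by
  have h1 : ∀ m : ℕ, y * x ^ m * c ^ m = x ^ m * y := by
    intro m
    induction m with
    | zero => simp
    | succ m ih =>
      have hc : Commute (c ^ m) x := (show Commute c x from h.cx).pow_left m
      have hc1 : Commute (c ^ m) c := (Commute.refl c).pow_left m
      calc y * x ^ (m + 1) * c ^ (m + 1) = y * (x ^ m * x) * (c ^ m * c) := by rw [pow_succ, pow_succ]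
        _ = y * x ^ m * (x * c ^ m) * c := by group
        _ = y * x ^ m * (c ^ m * x) * c := by rw [hc.eq]
        _ = (y * x ^ m * c ^ m) * (x * c) := by group
        _ = x ^ m * y * (c * x) := by rw [ih, h.cx]
        _ = x ^ m * (y * c) * x := by group
        _ = x ^ m * (c * y) * x := by rw [h.cy]
        _ = x ^ m * (c * (y * x)) := by group
        _ = x ^ m * (x * y) := by rw [h.xy]
        _ = x ^ (m + 1) * y := by rw [pow_succ]; group
  induction n with
  | zero => simp
  | succ n ih =>
    have hc : Commute (c ^ (m * n)) y := (show Commute c y from h.cy).pow_left _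
    have hc2 : Commute (c ^ (m * n)) (c ^ m) := (Commute.refl c).pow_pow _ _
    calc y ^ (n + 1) * x ^ m * c ^ (m * (n + 1)) = y ^ n * y * x ^ m * c ^ (m * n + m) := by rw [pow_succ, mul_add, mul_one]
      _ = y ^ n * (y * x ^ m) * (c ^ (m * n) * c ^ m) := by rw [pow_add]; group
      _ = y ^ n * (y * x ^ m * c ^ m) * c ^ (m * n) := by rw [hc2.eq]; group
      _ = y ^ n * (x ^ m * y) * c ^ (m * n) := by rw [h1]
      _ = y ^ n * x ^ m * (y * c ^ (m * n)) := by group
      _ = y ^ n * x ^ m * c ^ (m * n) * y := by rw [← hc.eq]; group
      _ = x ^ m * y ^ (n + 1) := by rw [ih, pow_succ, mul_assoc]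

theorem Rel.eyx (h : Rel x y c) (a b : ZMod 7) : e y b * e x a = e x a * e y b * e c (-(a * b)) := by
  have h1 := h.yx a.val b.val
  have h2 : c ^ (a.val * b.val) = e c (a * b) := by
    rw [← e_nat h.c7, Nat.cast_mul, ZMod.natCast_zmod_val, ZMod.natCast_zmod_val]
  rw [e_neg h.c7, ← h2]
  unfold e
  rw [← h1, mul_inv_cancel_right]

/-- the homomorphism -/
def phi (h : Rel x y c) : H7 →* G where
  toFun g := e x g.a * e y g.b * e c g.k
  map_one' := by
    show e x 0 * e y 0 * e c 0 = 1
    rw [e_zero, e_zero, e_zero, one_mul, one_mul]
  map_mul' g j := by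
    have c1 : ∀ u v : ZMod 7, e c u * e x v = e x v * e c u := fun u v =>
      ((show Commute c x from h.cx).pow_pow _ _).eq
    have c2 : ∀ u v : ZMod 7, e c u * e y v = e y v * e c u := fun u v =>
      ((show Commute c y from h.cy).pow_pow _ _).eq
    show e x (g.a + j.a) * e y (g.b + j.b) * e c (g.k + j.k - j.a * g.b) = _
    rw [e_add h.x7, e_add h.y7, sub_eq_add_neg, e_add h.c7, e_add h.c7]
    symm
    calc e x g.a * e y g.b * e c g.k * (e x j.a * e y j.b * e c j.k)
        = e x g.a * e y g.b * (e c g.k * e x j.a) * e y j.b * e c j.k := by group
      _ = e x g.a * e y g.b * (e x j.a * e c g.k) * e y j.b * e c j.k := by rw [c1]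
      _ = e x g.a * (e y g.b * e x j.a) * (e c g.k * e y j.b) * e c j.k := by group
      _ = e x g.a * (e x j.a * e y g.b * e c (-(j.a * g.b))) * (e y j.b * e c g.k) * e c j.k := by rw [h.eyx, c2]
      _ = e x g.a * e x j.a * e y g.b * (e c (-(j.a * g.b)) * e y j.b) * e c g.k * e c j.k := by group
      _ = e x g.a * e x j.a * e y g.b * (e y j.b * e c (-(j.a * g.b))) * e c g.k * e c j.k := by rw [c2]
      _ = e x g.a * e x j.a * (e y g.b * e y j.b) * (e c (-(j.a * g.b)) * (e c g.k * e c j.k)) := by group
      _ = e x g.a * e x j.a * (e y g.b * e y j.b) * ((e c g.k * e c j.k) * e c (-(j.a * g.b))) := by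
          have h3 : e c (-(j.a * g.b)) * (e c g.k * e c j.k) = (e c g.k * e c j.k) * e c (-(j.a * g.b)) := by
            rw [← e_add h.c7, ← e_add h.c7, ← e_add h.c7, add_comm]
          rw [h3]

theorem phi_apply (h : Rel x y c) (g : H7) : phi h g = e x g.a * e y g.b * e c g.k := rfl

theorem phi_injective (h : Rel x y c) (hc : c ≠ 1) : Function.Injective (phi h) := by
  have ho : orderOf c = 7 := by
    have : Fact (Nat.Prime 7) := ⟨by norm_num⟩
    exact orderOf_eq_prime h.c7 hc
  have hk : ∀ k : ZMod 7, e c k = 1 → k = 0 := by
    intro k hk
    unfold e at hk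
    have h1 := orderOf_dvd_of_pow_eq_one hk
    rw [ho] at h1
    have h2 := Nat.eq_zero_of_dvd_of_lt h1 (ZMod.val_lt k)
    exact (ZMod.val_eq_zero k).1 h2
  rw [injective_iff_map_eq_one]
  intro g hg
  have h1 : ∀ j : H7, phi h (g * j * g⁻¹ * j⁻¹) = 1 := by
    intro j
    rw [map_mul, map_mul, map_mul, hg, map_inv, hg]
    simp
  have h2 : ∀ j : H7, e c (g * j * g⁻¹ * j⁻¹).k = 1 := by
    intro j
    have h3 := h1 j
    rw [phi_apply] at h3
    have ha : (g * j * g⁻¹ * j⁻¹).a = 0 := by
      simp only [H7.mul_def, H7.inv_def]; ring
    have hb : (g * j * g⁻¹ * j⁻¹).b = 0 := by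
      simp only [H7.mul_def, H7.inv_def]; ring
    rw [ha, hb, e_zero, e_zero, one_mul, one_mul] at h3
    exact h3
  have hgb : g.b = 0 := by
    have h3 := hk _ (h2 ⟨1, 0, 0⟩)
    simp only [H7.mul_def, H7.inv_def] at h3
    have h4 : g.b = -(g.k + 0 - 1 * g.b + (-g.k - g.a * g.b) - -g.a * (g.b + 0) + (-0 - 1 * 0) - -1 * (g.b + 0 + -g.b)) := by
      ring
    rw [h4, h3, neg_zero]
  have hga : g.a = 0 := by
    have h3 := hk _ (h2 ⟨0, 1, 0⟩)
    simp only [H7.mul_def, H7.inv_def] at h3
    have h4 : g.a = g.k + 0 - 0 * g.b + (-g.k - g.a * g.b) - -g.a * (g.b + 1) + (-0 - 0 * 1) - -0 * (g.b + 1 + -g.b) := by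
      ring
    rw [h4, h3]
  have hgk : g.k = 0 := by
    rw [phi_apply, hga, hgb, e_zero, e_zero, one_mul, one_mul] at hg
    exact hk _ hg
  exact H7.ext hga hgb hgk

end phi

end Cfsg.Agent.H266.ON3
end

-- part: H210/ON3/Abs
section
/-!
# The classes of the elements of a group of order 343 and exponent 7 (helper210)

`x y c` satisfy the relations; the lines `x y ^ s`, `s = 0, 2, 5`, and `y` are conjugate to powers of `c`, the lines
`x y ^ s`, `s = 1, 3, 4, 6`, to powers of `b`.
-/

set_option autoImplicit false

namespace Cfsg.Agent.H210.ON3

open Cfsg.Agent.H266.ON3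

/-- conjugates in `H7` -/
theorem conj_k {g : H7} (h : g.a ≠ 0 ∨ g.b ≠ 0) (k : ZMod 7) : IsConj g ⟨g.a, g.b, k⟩ := by
  have : Fact (Nat.Prime 7) := ⟨by norm_num⟩
  rw [isConj_iff]
  rcases h with h | h
  · refine ⟨⟨0, (g.k - k) / g.a, 0⟩, ?_⟩
    rw [H7.mul_def, H7.mul_def, H7.inv_def]
    ext
    · simp
    · simp
    · simp only
      field_simp
      ring
  · refine ⟨⟨(k - g.k) / g.b, 0, 0⟩, ?_⟩
    rw [H7.mul_def, H7.mul_def, H7.inv_def]
    ext
    · simp
    · simp
    · simp only
      field_simp
      ring

theorem a_pow (g : H7) (n : ℕ) : (g ^ n).a = n * g.a := by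
  induction n with
  | zero => rw [pow_zero, Nat.cast_zero, zero_mul]; rfl
  | succ n ih => rw [pow_succ, H7.mul_def]; simp only; rw [ih]; push_cast; ring

theorem b_pow (g : H7) (n : ℕ) : (g ^ n).b = n * g.b := by
  induction n with
  | zero => rw [pow_zero, Nat.cast_zero, zero_mul]; rfl
  | succ n ih => rw [pow_succ, H7.mul_def]; simp only; rw [ih]; push_cast; ring

/-- the type of an element: `0` the identity, `1` conjugate to `c`, `2` conjugate to `b` -/
def ty (g : H7) : Fin 3 :=
  if g = 1 then 0 else if g.a ≠ 0 ∧ (g.b = g.a ∨ g.b = 3 * g.a ∨ g.b = 4 * g.a ∨ g.b = 6 * g.a) then 2 else 1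

theorem card_ty : (Finset.univ.filter fun g : H7 => ty g = 0).card = 1 ∧
    (Finset.univ.filter fun g : H7 => ty g = 1).card = 174 ∧
    (Finset.univ.filter fun g : H7 => ty g = 2).card = 168 := by
  decide +kernel

section

variable {G : Type*} [Group G] {x y c b : G}

/-- the conjugations -/
structure Cj (x y c b : G) : Prop where
  rel : Rel x y c
  cne : c ≠ 1
  bne : b ≠ 1
  hb : b = x * y
  cc : IsConj (c ^ 3) c
  bb : IsConj (b ^ 3) b
  ly : ∃ n : ℕ, IsConj y (c ^ n)
  l0 : ∃ n : ℕ, IsConj x (c ^ n)
  l2 : ∃ n : ℕ, IsConj (x * y ^ 2) (c ^ n)
  l5 : ∃ n : ℕ, IsConj (x * y ^ 5) (c ^ n)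
  l3 : ∃ n : ℕ, IsConj (x * y ^ 3) (b ^ n)
  l4 : ∃ n : ℕ, IsConj (x * y ^ 4) (b ^ n)
  l6 : ∃ n : ℕ, IsConj (x * y ^ 6) (b ^ n)

theorem isConj_pow {g h : G} (hc : IsConj g h) (n : ℕ) : IsConj (g ^ n) (h ^ n) := by
  rw [isConj_iff] at hc ⊢
  obtain ⟨u, hu⟩ := hc
  exact ⟨u, by rw [← hu, conj_pow]⟩

theorem conj_all {c : G} (c7 : c ^ 7 = 1) (h : IsConj (c ^ 3) c) {n : ℕ} (hn : c ^ n ≠ 1) : IsConj (c ^ n) c := by
  have key : ∀ k : ℕ, IsConj (c ^ 3 ^ k) c := by
    intro k
    induction k with
    | zero => rw [pow_zero, pow_one]
    | succ k ih =>
      rw [pow_succ', pow_mul]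
      exact (isConj_pow h _).trans ih
  have hm : ∀ m : ℕ, c ^ m = c ^ (m % 7) := by
    intro m
    conv_lhs => rw [← Nat.div_add_mod m 7, pow_add, pow_mul, c7, one_pow, one_mul]
  rw [hm] at hn ⊢
  have hlt : n % 7 < 7 := Nat.mod_lt _ (by norm_num)
  interval_cases h7 : n % 7
  · exact absurd (pow_zero c) hn
  · have := key 6; rw [hm] at this; exact this
  · have := key 2; rw [hm] at this; exact this
  · have := key 1; rw [hm] at this; exact this
  · have := key 4; rw [hm] at this; exact this
  · have := key 5; rw [hm] at this; exact this
  · have := key 3; rw [hm] at this; exact this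

theorem ne_of_isConj {g h : G} (hc : IsConj g h) (hg : g ≠ 1) : h ≠ 1 := by
  rintro rfl
  exact hg (isConj_one_left.1 hc)

/-- an element of a line whose representative is conjugate to a power of `w` -/
theorem line (hr : Rel x y c) (hinj : Function.Injective (phi hr)) {w : G} (w7 : w ^ 7 = 1) (hw : IsConj (w ^ 3) w)
    {u : H7} {g : H7} {m : ℕ} (hu : ∃ n : ℕ, IsConj (phi hr u) (w ^ n)) (hg : g.a ≠ 0 ∨ g.b ≠ 0)
    (ha : g.a = m * u.a) (hb : g.b = m * u.b) : IsConj (phi hr g) w := by
  obtain ⟨n, hn⟩ := hu
  have h1 : IsConj g (u ^ m) := by
    have h := conj_k hg (u ^ m).k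
    rwa [ha, hb, ← a_pow, ← b_pow] at h
  have h2 : IsConj (phi hr g) (phi hr (u ^ m)) := (phi hr).map_isConj h1
  rw [map_pow] at h2
  have h3 := h2.trans (isConj_pow hn m)
  rw [← pow_mul] at h3
  have hg1 : phi hr g ≠ 1 := by
    intro h
    have : g = 1 := hinj (h.trans (map_one _).symm)
    rw [this] at hg
    rcases hg with h | h <;> exact h rfl
  exact h3.trans (conj_all w7 hw (ne_of_isConj h3 hg1))

theorem Cj.b7 (h : Cj x y c b) : b ^ 7 = 1 := by
  have e1 : b = phi h.rel ⟨1, 1, 0⟩ := by
    rw [phi_apply, h.hb, e_one, e_one, e_zero, mul_one]
  rw [e1, ← map_pow]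
  have : (⟨1, 1, 0⟩ : H7) ^ 7 = 1 := by decide
  rw [this, map_one]

theorem Cj.cls (h : Cj x y c b) (g : H7) : (ty g = 0 → phi h.rel g = 1) ∧ (ty g = 1 → IsConj (phi h.rel g) c) ∧
    (ty g = 2 → IsConj (phi h.rel g) b) := by
  have hinj := phi_injective h.rel h.cne
  have e1 : ∀ (s : ZMod 7) (n : ℕ), (n : ZMod 7) = s → phi h.rel ⟨1, s, 0⟩ = x * y ^ n := by
    rintro s n rfl
    rw [phi_apply, e_one, e_nat h.rel.y7, e_zero, mul_one]
  have e2 : phi h.rel ⟨0, 1, 0⟩ = y := by rw [phi_apply, e_zero, e_one, e_zero, one_mul, mul_one]
  have e3 : ∀ k : ZMod 7, phi h.rel ⟨0, 0, k⟩ = c ^ k.val := fun k => by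
    rw [phi_apply, e_zero, e_zero, one_mul, one_mul]; rfl
  refine ⟨fun h0 => ?_, fun h1 => ?_, fun h2 => ?_⟩
  · have : g = 1 := by
      by_contra hne
      unfold ty at h0
      rw [if_neg hne] at h0
      split_ifs at h0
      · exact absurd h0 (by decide)
      · exact absurd h0 (by decide)
    rw [this, map_one]
  · have hg1 : g ≠ 1 := by
      rintro rfl
      unfold ty at h1
      rw [if_pos rfl] at h1
      exact absurd h1 (by decide)
    have hns : ¬ (g.a ≠ 0 ∧ (g.b = g.a ∨ g.b = 3 * g.a ∨ g.b = 4 * g.a ∨ g.b = 6 * g.a)) := by
      intro h'
      unfold ty at h1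
      rw [if_neg hg1, if_pos h'] at h1
      exact absurd h1 (by decide)
    by_cases ha : g.a = 0
    · by_cases hb : g.b = 0
      · have e : g = ⟨0, 0, g.k⟩ := H7.ext ha hb rfl
        rw [e, e3]
        refine conj_all h.rel.c7 h.cc ?_
        rw [← e3, ← e]
        exact fun h' => hg1 (hinj (h'.trans (map_one _).symm))
      · exact line h.rel hinj h.rel.c7 h.cc (u := ⟨0, 1, 0⟩) (m := g.b.val) (by rw [e2]; exact h.ly) (Or.inr hb)
          (by rw [ha, mul_zero]) (by rw [mul_one, ZMod.natCast_zmod_val])
    · have hs : g.b = 0 * g.a ∨ g.b = 2 * g.a ∨ g.b = 5 * g.a := by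
        have key : ∀ a b : ZMod 7, a ≠ 0 → ¬ (a ≠ 0 ∧ (b = a ∨ b = 3 * a ∨ b = 4 * a ∨ b = 6 * a)) →
          b = 0 * a ∨ b = 2 * a ∨ b = 5 * a := by decide
        exact key _ _ ha hns
      rcases hs with hs | hs | hs
      · exact line h.rel hinj h.rel.c7 h.cc (u := ⟨1, 0, 0⟩) (m := g.a.val)
          (by rw [e1 0 0 (by simp), pow_zero, mul_one]; exact h.l0) (Or.inl ha)
          (by rw [mul_one, ZMod.natCast_zmod_val]) (by rw [hs, zero_mul, mul_zero])
      · exact line h.rel hinj h.rel.c7 h.cc (u := ⟨1, 2, 0⟩) (m := g.a.val)
          (by rw [e1 2 2 rfl]; exact h.l2) (Or.inl ha)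
          (by rw [mul_one, ZMod.natCast_zmod_val]) (by rw [hs, ZMod.natCast_zmod_val, mul_comm])
      · exact line h.rel hinj h.rel.c7 h.cc (u := ⟨1, 5, 0⟩) (m := g.a.val)
          (by rw [e1 5 5 rfl]; exact h.l5) (Or.inl ha)
          (by rw [mul_one, ZMod.natCast_zmod_val]) (by rw [hs, ZMod.natCast_zmod_val, mul_comm])
  · have hs : g.a ≠ 0 ∧ (g.b = g.a ∨ g.b = 3 * g.a ∨ g.b = 4 * g.a ∨ g.b = 6 * g.a) := by
      unfold ty at h2
      split_ifs at h2 with h3 h4
      · exact absurd h2 (by decide)
      · exact h4
      · exact absurd h2 (by decide)
    obtain ⟨ha, hs⟩ := hs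
    rcases hs with hs | hs | hs | hs
    · exact line h.rel hinj h.b7 h.bb (u := ⟨1, 1, 0⟩) (m := g.a.val)
        ⟨1, by rw [e1 1 1 (by simp), pow_one, pow_one, ← h.hb]⟩ (Or.inl ha)
        (by rw [mul_one, ZMod.natCast_zmod_val]) (by rw [hs, ZMod.natCast_zmod_val, mul_one])
    · exact line h.rel hinj h.b7 h.bb (u := ⟨1, 3, 0⟩) (m := g.a.val)
        (by rw [e1 3 3 rfl]; exact h.l3) (Or.inl ha)
        (by rw [mul_one, ZMod.natCast_zmod_val]) (by rw [hs, ZMod.natCast_zmod_val, mul_comm])
    · exact line h.rel hinj h.b7 h.bb (u := ⟨1, 4, 0⟩) (m := g.a.val)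
        (by rw [e1 4 4 rfl]; exact h.l4) (Or.inl ha)
        (by rw [mul_one, ZMod.natCast_zmod_val]) (by rw [hs, ZMod.natCast_zmod_val, mul_comm])
    · exact line h.rel hinj h.b7 h.bb (u := ⟨1, 6, 0⟩) (m := g.a.val)
        (by rw [e1 6 6 rfl]; exact h.l6) (Or.inl ha)
        (by rw [mul_one, ZMod.natCast_zmod_val]) (by rw [hs, ZMod.natCast_zmod_val, mul_comm])

end

end Cfsg.Agent.H210.ON3
end

-- part: H210/ON3/Words
section
/-!
# The words of the Sylow 7-subgroup of the O'Nan group (helper210)
-/

set_option autoImplicit false
set_option maxRecDepth 100000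
set_option Elab.async false

namespace Cfsg.Agent.H210.ON3

open Subgroup Cfsg
open Cfsg.Spor (ON)
open Cfsg.Spor.ON (Gen)
open Cfsg.Agent.KFacts.ON.Words (hs eq conj)
open Cfsg.Agent.KFacts.MulSpor.ON (w w_append w_one w_cons w_iw iw)
open Cfsg.Agent.H51.ONSeven (wx wy wc w_wc w_nil)
open Cfsg.Agent.H266.ON3

open scoped commutatorElement

def X : ON := w wx
def Y : ON := w wy
def C : ON := w wc
def B : ON := X * Y

theorem C_eq : C = ⁅X, Y⁆ := w_wc hs

theorem rel : Rel X Y C where
  x7 := H51.ONSeven.x7 hs
  y7 := H51.ONSeven.y7 hs
  c7 := by
    have h1 : X * Y * X⁻¹ = C * Y := by rw [C_eq, commutatorElement_def]; group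
    have h2 : Commute C Y := by rw [C_eq]; exact H51.ONSeven.cy hs
    have h3 : (C * Y) ^ 7 = C ^ 7 := by
      rw [h2.mul_pow, show Y ^ 7 = 1 from H51.ONSeven.y7 hs, mul_one]
    rw [← h3, ← h1, conj_pow, show Y ^ 7 = 1 from H51.ONSeven.y7 hs]
    group
  cx := by rw [C_eq]; exact H51.ONSeven.cx hs
  cy := by rw [C_eq]; exact H51.ONSeven.cy hs
  xy := by rw [C_eq, commutatorElement_def]; group

theorem C_ne : C ≠ 1 := by rw [C_eq]; exact H51.ONSeven.c_ne hs

/-- powers of words -/
def pw (l : List Gen) (n : ℕ) : List Gen := (List.replicate n l).flatten

theorem w_pw (l : List Gen) : ∀ n : ℕ, w (pw l n) = w l ^ n := by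
  intro n
  induction n with
  | zero => rw [pow_zero]; rfl
  | succ n ih => rw [pow_succ', ← ih, ← w_append]; rfl

theorem w_B : w (wx ++ wy) = B := by rw [w_append, B, X, Y]

section Packed

open Cfsg.Agent.SporadicB.ON45Data Cfsg.Agent.SporadicB.ON45Word Cfsg.Agent.ONType.TupRow

private def mX : ℕ := 0x60000000000000000000000000000000000000000000000000000000000004000000000000000200000000000000000000060000000080000601800001000010000000020000000000000000000000000000000000000000000000000006000000000000000000000000a000000060000080180000c00000005000000000050000000300000001800000000000000000000000000000000000000000000000000020000000000a000000060000000000000a00003005000014000000000040000000c00000005000000000000000040000000000000000000000000000020000000000a0000000600000000001002000030000000180000000a000000050000000000000000000000000000000000000000000000000000000000000000000000000000300000001800006018000030000000200000000002800000014000000080000000000000000000000000000000000000000000000000004000000000040000000080000000000006000008008000000000000000a00000006000000030000000000000000000000000000000000000000000000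300000000002000000028000000000180300001400000006000000000000000000000001400000004000000000040000000000800000000000000000060000000000100000000000000000000000000080000200a000030000000040000000a00000002000000000000000000000000000000000000000000000000000280000000001800000010000000000000180000a00400005000000000050000000180000000c0000000000000006000000000000000000000000000001000000000030000000080000000001002000004000000040000000000000000000000002000000050000000000300000000001000000000000000000300000000002000000000000000000000000000800000004000018000000000000000000000000000000010000040000000000100000001800000000030000000000000000000000000000000000030040000300000001400000000000000000000000000000000000006000000000020000000080000c000000000000000000000000000000000000000000000000100000401400002000000000000000000000000000000005000018000000000000000000c00000000006000000000000000000000000000000000004020000060000000400000000000000000000000020000000300000000004000000000060000000000000000002800000000020000000000000000000000000002000028030000140000000000400000000000000060000000000000000000000000000000000000000000000600000000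00000000001000000000000000000300000001000000000000000000000000000000000000001000000000040000000280000c000000000000000000000000000000000000000000000000200000c008000050000000000000000000000000000000060000000000000000c00000000000000000040000000000000000000000000000000000000000000a00000006000000000000000000000000a00000006000000000010000000000200000000000000000020000000000080000000000000000000000000040000180100001000000000000000000000000000000000003000000000020000000080000600000000000000000000000000000000000000000000000004000050080000080000000000000000000000000000000200000a000000000000000000500000000001000000000000000000000000000000000004004000010000000300000000000000000000000000000000000000200000000004000000060000180000000000000000000000000000000000000000000000001000018008000060040000000000000000000000000000000000000000000000000000000000020000000000000000c0000000000000000000018000000060000300100001400001000000000000000000000000000000000000000000000000000000000000c0000000000000000000000000000000140000000000001000000004000000000000000000000000000000000018000080000000000c000000030000000000100000000000000000000000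00000000000060080000600000001800000000000000000000000200000002000000000008000000000100000000000000000014000000000180000000000000000000000000060000000080000a0000000000400000003000000020000000000000000c0000000000000000000000000000050000000000600000002800000000020040000140000000600000000004000000040000000200000000000000000000000000000000000000000000000000010000000000180000000c000000000000180000300a000020060000000000000000000000000000000000000000000000000000000000008000000000000000400000000000000000000060000000100000a00c0000100000000000000000000050000000280000000002800000000020000000000000000001800000000018000000000000000000000000003000008000000040000000000a0000000100000003000000000000000000000000000000000000000000000030000000000500000002800000000020040000140000000600000000002000000060000000280000000000000000000000000000000000000000000000000008000000000140000000800000000000010000060080000000000800000003000000000000000000000000000000000000000000000000000000000000000000000000000060000000080000c014000010000000300000000000006000000030000000080000000000000001000000000000000000000000000003000000000028000000040000000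000400800008000000030000000000200000003000000004000000000000000000000000000000000000000000000000000200000000004000000060000000000000000002803000008000030000000080000000000000000000000000000000000000000000000000004000000000000000000000002800000004000020060000300000000c000010000000000000000000000000000000000000000000000000000000000004000000000000000500000000000000000000060000000100000a008000020000000000000000000000000000000000000000000000000000000000000000000000000000000000000000000000000000000100180000a00000006000000000000000000000000000000000000000000000000000000000000000000000000000000000000000000000000000000000018040000140000000c0000000000000000000000000000000000000000000000000000000000000000000000000000000000000000000000000000000000000000c00000000000030000000000000000000000000000000000000000000000000000000000000000000000000000000000000000000000000000000080100000200000003000000000000000000000000000000000000000000000000000000000000000000000000000000000000000000000000000000000000000000000180180000000000000000000000000000000000000000000000000000000000000000000000000000000000000000000000000000000000000000000000008030000000000000000000000000000000000000000000000000000000000000000000000000000000000000000000000000000000000000400800002800000004000000000000000000000000000000000000000000000000000000000000000000000000000000000000000000000000000000000000000200000000000006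

private def mY : ℕ := 0x100201403001004004018010060080200600201800806004010010010020000000000000000000000000000000000000000000a00c0300500c01801803000004018040000080100200000c020050000000000000c0080200400400c000000000000000000000000000000000000000000080300600c000028000060000000100a0000000300c00000006002000000000000000000000c00c010000000000000000000000000000000000000000000180200400c0280400a00000000000004000000000100000000000c000000000000000000000000006000000000000000000000000000000000000000000030000100180000800c00000000000000010040040180200c0100080100a00c0180200201400803006000000000000000000000000000000000000000000040080080600c01401004000000000000000040080100000c020050000000000000201003001006004000000000000000000000000000000000000000000180100100801802002000000000000000000000100400000004006000000000000000000000200c010000000000000000000000000000000000000000000000600200c020000060040000000000000000000004000000000140000000000000000000000000010000000000000000000000000000000000000000000600600002802006000030000000000000000000000001006008020060060040180400a01402803006000000000000000000000000000000000000000000040000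3003004010000060000000000000000000000000004030040000000000000c0100200100400c000000000000000000000000000000000000000000180000100c0180300300000000000000000000000000000000100c000000000000000000000c014008000000000000000000000000000000000000000000080000c0080300400c01800000000000000000000000000000000400000000000000000000000000600000000000000000000000000000000000000000000000000030060040000080000000000000000000000000000000000100000000000000000000000000000000000000000000000000000000000000000000a00000003002010018000000000000000000000000000000000000020040000000c000000000000000000000000000000000000000000000000000000000c0180500000c01803004000000000000000000000000000000000004010010000140280000a0000000000000000000000000000000000000000000000000806006004000020060100000000000000000000000000000000000080300600402001008004008010000000000000000000000000000000000000000000300c00c0100200600c030000000000000000000000000000000000000000000000100000000000000000000000000000000000000000000000000000000020100000000a000030000000000000000000000000000000000000000000000000200400002000000000000000000000000000000000000000000000000040080200c00801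80200a0000000000000000000000000000000000000000000000401001008010030000000000000000000000000000000000000000000080000801402002008018000000000000000000000000000000000000000000000000000000400000000000000000000000000000000000000000000000050080000080300c000000000000000000000000000000000000000000000000000000000000801006000000000000000000000000000000000000000000040080080600c004000040000000000000000000000000000000000000000000000000000000000004000000000000000000000000000000000000000000000280000400801001000000000000000080100300a010030050080080180600c0080080500600802801004004028030060000000000000000000000000008040060180100100001000000000000000000000000100300c008028060040180200500a004010050000040300300200c000000000000000000000000001000004030000000140180000000000000000000000000000000000200000000000000000000000000000000100000000000000000000000000000000000000001800008004018000000000000000000000000000000000000040080000000c00000000000000000000020040000000000000000000000000000000140100300a004020050040000000000000000000000000000000000080200200001402800002000000000000040100100000000000000000000000000000180400400c0080100a010000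0000000000000000000000000000000100600c0080200100800c01804000000008030060040000000000000000000000000010020000280200c0080180000000000000000000000040080180180300a01002803004008008020080000200300a0100280100c00c00803000000000000000140000100600c000040000000000000000000000000000000000080000000000000000000000000000000080000000000000400000000000000000000040180600200c01805000000000000000000000000000000000000010020000000040000000000000000000010020000000000080100000000000000000008000000180300000a01400000000000000000000000000000000002001008000010020000040000000000002001008000000010040040000000000000001008010020060080180180000000000000000000000000000000000400a0140200300c00c0180300c0000000400a0140200000200c018010000000000000a0140280000a0180080200000000000000000000000000000000000200000000000000000000000000000000a000000000000180000000000400000000000020040080180000100a0000000000000000000000000000000000040080000001400000000000000000000140280000000003006000000008010000000180500800c0200100000c0000000000000000000000000000000000080200200001803000010000000000000280300a0000000600a018000010040040000600400001805000004018000000000000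0000000000000000000000100600c008010040040280500c000000050020040280000c0100200600200c0180100400c0300400400802004000000000000000000000000000000000000000000000000000000000000000000000000000000000000000000000000000000004000000000080280000000000000000000000000000000000000000000000000000000000000000000000000000000000000000000000000000000000000001000000030040000000000000000000000000000000000000000000000000000000000000000000000000000000000000000000000000000000000000600000402806004000000000000000000000000000000000000000000000000000000000000000000000000000000000000000000000000000000000000000000000100001800000000000000000000000000000000000000000000000000000000000000000000000000000000000000000000000000000000000000000000000040000000000000000000000000000000000000000000000000000000000000000000000000000000000000000000000000000000000000000000000000000010000000000000000000000000000000000000000000000000000000000000000000000000000000000000000000000000000000000000000000000002000004000000000000000000000000000000000000000000000000000000000000000000000000000000000000000000000000000000000000140000000400c00801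

private def mC : ℕ := 0x100800c03003006018010020060040080600a00c030010080140100500c000000000000000000000000000000000000000000020140080000800c00805000004028010000180180500001802006000000000000040040180100c00400000000000000000000000000000000000000000004030000020000300600a0000000100c00000002004000000050020000000000000000000006010030000000000000000000000000000000000000000000200400401400805006010000000000040000000001400000000018000000000000000000000000001000000000000000000000000000000000000000000010000080280500001801800000000000010020080180600400c0180500c010030040060140280500c0000000000000000000000000000000000000000000c01803006006018020040000000000000000402002000008030020000000000000800c02803006010000000000000000000000000000000000000000000080280300601803003002000000000000000000100200000005002000000000000000000000c018010000000000000000000000000000000000000000000100000c00c0100300200c0000000000000000000004000000000040000000000000000000000000020000000000000000000000000000000000000000000300a0000180300200002800000000000000000000000100a010020030080080100500a010030040040000000000000000000000000000000000000000000c0140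2804000014008030000000000000000000000000004018010000000000000200402801006010000000000000000000000000000000000000000000100100100801800004008000000000000000000000000000001006000000000000000000000a004028000000000000000000000000000000000000000000300300a01401002006008000000000000000000000000000000004000000000000000000000000004000000000000000000000000000000000000000000000000000280300000001800000000000000000000000000000000001000000000000000000000000000000000000000000000000000000000000000000002000000050040180280000000000000000000000000000000000000600400000006000000000000000000000000000000000000000000000000000000001803001000010030010020000000000000000000000000000000000080300100001003000006000000000000000000000000000000000000000000000000000100c00803002006018000000000000000000000000000000000030060040040200500401801001000000000000000000000000000000000000000000030040180300400a0080100000000000000000000000000000000000000000000001000000000000000000000000000000000000000000000000000000000800800000008000020000000000000000000000000000000000000000000000000600400001000000000000000000000000000000000000000000000000140280100a00c02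804002000000000000000000000000000000000000000000000080300100c008028000000000000000000000000000000000000000000080400c008018060040140000000000000000000000000000000000000000000000000000004000000000000000000000000000000000000000000000000100a0000200600400000000000000000000000000000000000000000000000000000000000180100a000000000000000000000000000000000000000000080100180200c018000020000000000000000000000000000000000000000000000000000000000004000000000000000000000000000000000000000000000300000c00c02003000000000000000040200300c0180080100c0140300400c008028060080100280100c0140300400c00000000000000000000000000280100a0100100500600c00000000000000000000000080600c004018040040080300600400803004000004018040040080000000000000000000000000000080000000100c018030000000000000000000000000000000000010000000000000000000000000000000010000000000000000000000000000000000000000280000600c030000000000000000000000000000000000000060040000000a00000000000000000000060040000000000000000000000000000000000100100200401803008000000000000000000000000000000000008030010000080180000200000000000008030010000000000000000000000000000000050060080300500400c000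0000000000000000000000000000000300600400401006002008018020000000300600400400000000000000000000000000000a0080200600801001800000000000000000000000100800c03003008008010040080180080300600001006002010020010060100100200000000000000014010020080180200200000000000000000000000000000000000200000000000000000000000000000000400000000000004000000000000000000000c0100500800c0080100000000000000000000000000000000000000c0080000000400000000000000000000180100000000001801000000000000000000300400800802001006014000000000000000000000000000000000010060020000300200001000000000000020050040000000200c0040000000000000005004004020000000180100000000000000000000000000000000000600c0080080600800c0080500a0000000500a0100100000c018010010000000000000a01400000000018000000000000000000000000000000000000000020000000000000000000000000000000060000000000000c0000000000400000000000030010020140180000200000000000000000000000000000000000c008000000180000000000000000000008018000000000100300000001801000000010050060000000400c000000000000000000000000000000000000010060020000080500000400000000000030040060000000600800c0000200c0040000500000801804002010010000000000000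0000000000000000000000600c008008010060100100300c00000004008018018000080100300300c0180100100a0100300200401803005000000000000000000000000000000000000000000000000000000000000000000000000000000000000000000000000000000004000000000180300000000000000000000000000000000000000000000000000000000000000000000000000000000000000000000000000000000000000001000000020020000000000000000000000000000000000000000000000000000000000000000000000000000000000000000000000000000000000000400000403005006000000000000000000000000000000000000000000000000000000000000000000000000000000000000000000000000000000000000000000000100001000000000000000000000000000000000000000000000000000000000000000000000000000000000000000000000000000000000000000000000000040000000000000000000000000000000000000000000000000000000000000000000000000000000000000000000000000000000000000000000000000000010000000000000000000000000000000000000000000000000000000000000000000000000000000000000000000000000000000000000000000000001000004000000000000000000000000000000000000000000000000000000000000000000000000000000000000000000000000000000000000180000000601801801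

private def mB : ℕ := 0x600400403006006008008050040080100600c014018040060080200200c0040300400c010020020080040080100c004010060080100280400001402805000010020010020000180600a0180300500a00803001008010030000080040000600200c010040000040000200a0140300600000800004000014010050060000000500c000030060020180080000400c0280200a0000080200601003000000008010000020000100300a000018060000000180500c0140180000600c000000000040000000c01800005002014030050020040280300400401001000000020030020000000400a000000060000000000400a014020060060100180000a0140180500c00c028050000080280300000000806008008018060000000000500000c0200000200c0000300c00c0180000c01801004004000000060000000280600001400804008004010000020000300400600c030060040100000000c014010040000080300400001000800000018008030060080100200c0000000000a0000000600000003003006004030020000040180500000c0200000000000803000000020020000000280000000002004004000018020040180000000000000000000014000000040180080600400001005008018008060000000100600000000001000000000000000000000500801800802000010018000000040200000a0080000200c004018030000040200500a01002803006000000040040040280000601001800004010000000080100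100300201400806000000000050000000180500000c028060020140080600c008000010020100000000c00c01000000000030000000080000000000c02800000004030020000000000000000000000002000000050040080000300001403001008004000000000180300000000002000000000000000000000080300800c0300300000c0000000000000000000000000000000100300400000002801000004018010000000300000000000000000000000000000000000600a00c0200400401801800000000000000000000000000000000006000000000020000000080000c000000000000000000000000000000000000000000040100100400a0180100200000000000000000000000000000000500a0180000000a0000000300c000000000060000000000000000000000000000000000180100000c00c0000100800000000000000000000020000000300a018028040000000080600201401800000008028000000000200000000000000000000028020080180080200a00800000000004000000000080000600a010018020040000180300a00401000000000028030060000000200000000001000000000060060040080200801803000000000000000000000000000000000001000000000040000000280000c0000000000000000000000000000000000000000000a0040200600200c0080500000000000000000000000000000000600c0000000000a00c00002000010000000040000000000000000000000000000000000100200400400c02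000000000000000000000000000a0000000600000c030010000100300200001801800000004020000000000080000000000000000000030010060000000100c00000000000000000000000000000000000003000000000020000000080000600000000000000000000000000000000000000000001000004028010060100080000000000000000000000000000000200200a00000003000000030050060000000100000000000000000000000000000000000a01001005008000018050000000000000000000000000000000000020000000000400000006000018000000000000000000000000000000000000000000180200100c018030010060040280600200c000030020000000500c0080300300a0180300400c0040100200c00c0100500a00c00004006018030010040180080500a00c0000200c004000010020080000100a0100100000200c0180100c00c0280400c0040000600000c030040020040000600600c0000300a014000000000180100100c018028000000000000000000000000000000018050080000000400c0000100300a0000000100000000000000000000000000000000000200003000002010030010000000000000000000002000000020060080080080000001801004002018000000000140000000001800000000000000000000040180200a0040180400c000000000040000000300c000020000080080000300c00000002002018030000000080300500000003006000000028000000000200200a0080000300a008000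00004004000040040100200300a008018060060100280200200c0280100000001805000010000040080180000300c0000000600c0000280400800001806004004030020080180200500c018018030020040300200c014010020060080280000c00c000040060000280400c0040100600601403006008000008040000000000000000000005000000028050060080280000200c0200400a00c000000080180000000001800000000000000000000000280100200c018050080000000000a0000000100c0000300000801002802000014018050040040100000000802803000000010050000000280000000002805006018018020020080000000201000006000010028000000040200100200c03002004008020000000000200300a0080000000c01400002008000000020080080200200a004020000080100080300c0100000300c0080080200a014010020000040280100a0000000600a0100080000600c0200600400400800004008030030080180200500000000006000000030020000080100100c01801001004008018010020180000000a004030000000040280000000400000000018028030080040100400a000000020020000300500a0040180100c010028000020040100600a00000800000004028030020000180000400001806000000018030060040200300200c000030060180080600a008020030060040280400400c0100400200c030060000040180000800000002008018028020020040000100c000008000020100280100a0180080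000c01802801002000030010000080000300201001802002004018020080140180500c00c0000200c004010060000100100500800c028000000000000000000000000000000000000000000000000000000000000000000000000000000000000000000000000000000000100180000a00c00006000000000000000000000000000000000000000000000000000000000000000000000000000000000000000000000000000000000018040000140280200c0000000000000000000000000000000000000000000000000000000000000000000000000000000000000000000000000000000000200600c0280300600c030000000000000000000000000000000000000000000000000000000000000000000000000000000000000000000000000000000080100000200c0100300000000000000000000000000000000000000000000000000000000000000000000000000000000000000000000000000000000000000000000018018000000000000000000000000000000000000000000000000000000000000000000000000000000000000000000000000000000000000000000000000803000000000000000000000000000000000000000000000000000000000000000000000000000000000000000000000000000000000000040080000280500c0040000000000000000000000000000000000000000000000000000000000000000000000000000000000000000000000000000000000a00c0200200200401806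

private def mE : ℕ := 0x100600c008050060140000600c00000000000000008000000000000000001402000000008010060000180300200c018010010080040200400c01401005006008010030080100180300a0180080000000002000000000020000000000280000000c028030020040100600800c018010080000180300001802806004008030060040000200100801801005004000010050020000100200000c000060040180300300400c00804002000028050080080200600400c018020080100300400801803002000010020040080100080500a0000080000a0140180600a000010050020040080600000c0300600c00800804006008030050040140280300200001002000008020000080180000000000c0000000000c00000000014000000080040000100c01800002004000020040060000000100a00402000006010030050000100300200c01403004000010030060000100080000c0000100600a00c020020020100180100000802805006014010030000040100400600c030030000080280000800c0000400200c0180500000c00005002018020060000100280000c0100300000800800001006010020040080000200300000c000020080080300600c0180180200201801000006018018050080180000200001402004006004000050060140080500201800001006008018040040100180300c004028000060180200100a0140180000601403000006008000010000080100200c0100280100200c030000040080200300a0040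1805002004008030020040200400a008000040080140200100c00c0280000c0000280200c004010000080140180100c0180000300a0100300400c0000000500800c028020060000100100c018028040060180300400401400005008010020020020000280000a01801002004000030020060040080200c00003001002000028050040100000000600c00004008008030060020080200100200000800002014010030000000080300a0140000300a0180000300200000004000014000020060180300000000003000000014018000020180200100600c0080600801002801002000000050060140000000c018000000020000000000000c028050080080080600000002801000008030000060080000400a0080000000600000001008008000000040000200600000002003000004020000000080000600c014020060060000080100800c02805004018020050040180000100a008020060080000300000c018030060040000200600601001802006000018040080180300600200c0080000a00000006000008028000040000080000c0000080000c014000060040000000600000c030030000080000000800003000000010000060060000080000000002000000004018000060180180400800c0180300601003006008000000020060040000000c01000000006000000000000100080200c010008060000000200000000c00003002000028000060000280000c00002802000010000000000040000200000400001000000030000000000000300000802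80000a0000080600800c0100500a004020020040040000600a014020010060000080000c0180080600a00001806008010018050060000100300a0100080100a0140000000001400000006014000020060080100500a0080280200400c02002000000030050060000000300a000000020000000000000a01801802000008020000000040200000c00c0000200200001001002000000020000000180200c0000000100000802000000008010000080140000000000401002000000008030000000000100000001003000018030030020100180600c00c0200500c0040000000400c010000000180080000001800000000018018050080140200200c0080100500a0040280400000c010000000000000000a000000000000000000300a00000003002014000020060180100300c0080100000000c02006004008018000080000000100000c0180000200000000008000000000080000000000a00000003000018008010000140000000c0000200000000800002008000028000000040300000c0040180200a0140200600401400005000014020040020000000200200c0200000200c0100000c014000000020000300000400c0280100000c0100200400c0300600a00800803006000018060020180200200000c00004004010018040000140180600a014020020000080280200000c0180300200c020050040180300000a01403005008010028010000100000100c00c018060000080080500601002000004018010040040100280200801402004000010010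0300601800002006014018060020140000500200c0000500c0000200000c004008040040040180300a0100000100c0080100100c0080100100c0140100400600c0200500601800006006000000000000000200000000000000000018020000000040100300000c03002006018010040060000200200c004008060000180100600800c0200300a018020040020000280400a004010030000040000100a00801004000018010060060040200400000c0100300c0040300400c0180100600000c018000020180000100a0180080300001800003004008008050000180180000a0040280000200c000020020040300600a000018020000100280500600400002008004018010060140000500601000005008000020000020100080500a004020020040100000600c0040280100c014000040020140280400200001002000008018000080040000000001000000000010000000000080000000600400006002018000020040000200300000c0080500c014028030020100180600c014000030060100180400c0140100000c00001002006004010000040080080600c0040000400c0180080200c00802802004000010040000040200300c0000100300400c0300600c00003006006000030010000080000300c01001802002014020050080000080600a0040280400c01803003008004008040060180080600c0040200500a0000000000c0000000000c000000000080000000100600402805008008008060020080300000c00c0000100c0140100100800c0300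200600800006002000000000000000300000000000000000014018000000140100600000403005002018028010080000100500c014008040000000000000000000000000000000000000000000000000000000000000000000000000000000000000000000000000000000080280300401402004004000000000000000000000000000000000000000000000000000000000000000000000000000000000000000000000000000000028020060140280400600800000000000000000000000000000000000000000000000000000000000000000000000000000000000000000000000000000002004010020000000180100000000000000000000000000000000000000000000000000000000000000000000000000000000000000000000000000000000c00402805002014018010000000000000000000000000000000000000000000000000000000000000000000000000000000000000000000000000000000100200000c01000802000000000000000000000000000000000000000000000000000000000000000000000000000000000000000000000000000000000028050000100100400c00000000000000000000000000000000000000000000000000000000000000000000000000000000000000000000000000000000003008004030030020140180000000000000000000000000000000000000000000000000000000000000000000000000000000000000000000000000000000600c0080600000001004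

private theorem lX : LW X [mX] :=
  (show LW X [gb, ga, ge, gd, gc, gd, gc, ge, gd, gc, gf, ge] from LW.word wx).change (by decide +kernel) (by decide +kernel)

private theorem lY : LW Y [mY] :=
  (show LW Y [gb, gd, gc, gb, gd, gc, gd, gc, ge, gd, gc, gb, gd, gc] from LW.word wy).change (by decide +kernel) (by decide +kernel)

private theorem lXi : LW X⁻¹ [ge, gf, gc, gd, ge, gc, gd, gc, gd, ge, ga, gb] := by
  rw [X, ← w_iw hs]
  exact LW.word _

private theorem lYi : LW Y⁻¹ [gc, gd, gb, gc, gd, ge, gc, gd, gc, gd, gb, gc, gd, gb] := by
  rw [Y, ← w_iw hs]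
  exact LW.word _

private theorem lC : LW C [mC] := by
  rw [C_eq, commutatorElement_def]
  exact (show LW (X * Y * X⁻¹ * Y⁻¹) (mX :: mY :: [ge, gf, gc, gd, ge, gc, gd, gc, gd, ge, ga, gb, gc, gd, gb, gc, gd, ge, gc, gd, gc, gd, gb, gc, gd, gb]) from
    ((lX.mul lY).mul lXi).mul lYi).change (by decide +kernel) (by decide +kernel)

private theorem lB : LW B [mB] :=
  (show LW B [mX, mY] from lX.mul lY).change (by decide +kernel) (by decide +kernel)

/-- conjugation from packed matrices -/
private theorem isConj_m (u : List Gen) {x y : ON} {a b : List ℕ} (hx : LW x a) (hy : LW y b) (l m : List ℕ)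
    (hl : KFacts.MulSpor.ON.mats u ++ a = l) (hm : b ++ KFacts.MulSpor.ON.mats u = m) (h : eqM l m = true) :
    IsConj x y := by
  rw [isConj_iff]
  refine ⟨w u, ?_⟩
  rw [mul_inv_eq_iff_eq_mul]
  subst hl hm
  exact eq_of_eqM hs ((LW.word u).mul hx) (hy.mul (LW.word u)) h

theorem cc : IsConj C (C ^ 3) :=
  isConj_m [.c, .d, .e, .d, .b, .c, .d, .a] (lC) (lC.pow 3)
    [gc, gd, ge, gd, gb, gc, gd, ga, mC]
    [mC, mC, mC, gc, gd, ge, gd, gb, gc, gd, ga]
    rfl rfl (by decide +kernel)

theorem bb : IsConj B (B ^ 3) :=
  isConj_m [.f, .d, .b, .c, .d, .e, .d, .a, .b, .c] (lB) (lB.pow 3)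
    [gf, gd, gb, gc, gd, ge, gd, ga, gb, gc, mB]
    [mB, mB, mB, gf, gd, gb, gc, gd, ge, gd, ga, gb, gc]
    rfl rfl (by decide +kernel)

theorem cy3 : IsConj C (Y ^ 3) :=
  isConj_m [.e, .f, .d, .e] (lC) (lY.pow 3)
    [ge, gf, gd, ge, mC]
    [mY, mY, mY, ge, gf, gd, ge]
    rfl rfl (by decide +kernel)

theorem cx5 : IsConj C (X ^ 5) :=
  isConj_m [.a, .b, .c, .d, .c, .a, .b, .a] (lC) (lX.pow 5)
    [ga, gb, gc, gd, gc, ga, gb, ga, mC]
    [mX, mX, mX, mX, mX, ga, gb, gc, gd, gc, ga, gb, ga]
    rfl rfl (by decide +kernel)

theorem s2 : IsConj (X * Y ^ 2) (C ^ 6) :=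
  isConj_m [.a, .b, .c, .g, .g, .g, .d, .e, .g, .g, .g, .b, .d, .c, .b, .d, .c, .d, .e, .b, .g, .d, .e, .a] (lX.mul (lY.pow 2)) (lC.pow 6)
    [ga, gb, gc, gg, gg, gg, gd, ge, gg, gg, gg, gb, gd, gc, gb, gd, gc, gd, ge, gb, gg, gd, ge, ga, mX, mY, mY]
    [mC, mC, mC, mC, mC, mC, ga, gb, gc, gg, gg, gg, gd, ge, gg, gg, gg, gb, gd, gc, gb, gd, gc, gd, ge, gb, gg, gd, ge, ga]
    rfl rfl (by decide +kernel)

theorem s5 : IsConj (X * Y ^ 5) (X * Y ^ 2) :=
  isConj_m [.f, .d] (lX.mul (lY.pow 5)) (lX.mul (lY.pow 2))
    [gf, gd, mX, mY, mY, mY, mY, mY]
    [mX, mY, mY, gf, gd]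
    rfl rfl (by decide +kernel)

theorem s3 : IsConj (X * Y ^ 3) (B ^ 6) :=
  isConj_m [.a, .b, .d, .c, .d, .e, .d, .c, .d, .c, .b, .e, .d, .c, .d, .c, .e] (lX.mul (lY.pow 3)) (lB.pow 6)
    [ga, gb, gd, gc, gd, ge, gd, gc, gd, gc, gb, ge, gd, gc, gd, gc, ge, mX, mY, mY, mY]
    [mB, mB, mB, mB, mB, mB, ga, gb, gd, gc, gd, ge, gd, gc, gd, gc, gb, ge, gd, gc, gd, gc, ge]
    rfl rfl (by decide +kernel)

theorem s4 : IsConj (X * Y ^ 4) (B ^ 6) :=
  isConj_m [.a, .b, .a, .c, .d, .e, .d, .c, .d, .c, .b, .e, .d, .c, .d, .c, .b, .e, .f] (lX.mul (lY.pow 4)) (lB.pow 6)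
    [ga, gb, ga, gc, gd, ge, gd, gc, gd, gc, gb, ge, gd, gc, gd, gc, gb, ge, gf, mX, mY, mY, mY, mY]
    [mB, mB, mB, mB, mB, mB, ga, gb, ga, gc, gd, ge, gd, gc, gd, gc, gb, ge, gd, gc, gd, gc, gb, ge, gf]
    rfl rfl (by decide +kernel)

theorem s6 : IsConj (X * Y ^ 6) B :=
  isConj_m [.d, .f] (lX.mul (lY.pow 6)) (lB)
    [gd, gf, mX, mY, mY, mY, mY, mY, mY]
    [mB, gd, gf]
    rfl rfl (by decide +kernel)

/-- an element of order four commuting with `C` -/
def we4 : List Gen := [.a, .b, .c, .d, .c, .e, .f, .e, .d, .e, .c, .d, .c, .b, .a]
def E4 : ON := w we4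

private theorem lE : LW E4 [mE] :=
  (show LW E4 [ga, gb, gc, gd, gc, ge, gf, ge, gd, ge, gc, gd, gc, gb, ga] from LW.word we4).change (by decide +kernel) (by decide +kernel)

theorem E4_pow : E4 ^ 4 = 1 :=
  (show LW (E4 ^ 4) [mE, mE, mE, mE] from lE.pow 4).eq_one hs 1 (by decide) (by decide +kernel)

theorem E4_comm : E4 * C = C * E4 :=
  eq_of_eqM hs (show LW (E4 * C) [mE, mC] from lE.mul lC) (show LW (C * E4) [mC, mE] from lC.mul lE)
    (by decide +kernel)

end Packed

theorem E4_ne : E4 ^ 2 ≠ 1 := by
  rw [E4, ← w_pw, ← w_nil]
  exact Cfsg.Agent.ONType.TupRow.ne_of_rowNe (SporadicB.ON45Word.LW.word _) (SporadicB.ON45Word.LW.word _)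
    (by decide +kernel)

theorem B_ne : B ≠ 1 := by
  rw [← w_B, ← w_nil]
  exact Cfsg.Agent.ONType.TupRow.ne_of_rowNe (SporadicB.ON45Word.LW.word _) (SporadicB.ON45Word.LW.word _)
    (by decide +kernel)

theorem cj : Cj X Y C B where
  rel := rel
  cne := C_ne
  bne := B_ne
  hb := rfl
  cc := cc.symm
  bb := bb.symm
  ly := ⟨5, by
    have h := (isConj_pow cy3 5).symm
    rwa [← pow_mul, show 3 * 5 = 7 + 7 + 1 from rfl, pow_add, pow_add, rel.y7, one_mul, one_mul, pow_one] at h⟩
  l0 := ⟨3, by
    have h := (isConj_pow cx5 3).symm
    rwa [← pow_mul, show 5 * 3 = 7 + 7 + 1 from rfl, pow_add, pow_add, rel.x7, one_mul, one_mul, pow_one] at h⟩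
  l2 := ⟨6, s2⟩
  l5 := ⟨6, s5.trans s2⟩
  l3 := ⟨6, s3⟩
  l4 := ⟨6, s4⟩
  l6 := ⟨1, by rw [pow_one]; exact s6⟩

end Cfsg.Agent.H210.ON3
end

-- part: H266/ON3/Sieve
section
/-!
# A character of degree 207360 of a group with the local data of the O'Nan group (helper266)

The class function `α` with the values `3 * 207360` (1), `-24` (7A), `-3` (7B), `-3` (11A), `1` (19ABC), `3` (31AB) and
`0` elsewhere is a generalized character of norm three; it is the sum of the three exceptional characters for the
prime 19, of degree `207360 = 2 ^ 9 * 3 ^ 4 * 5`.
-/

set_option autoImplicit false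

open Cfsg Subgroup
open scoped ComplexConjugate

namespace Cfsg.Agent.H266.ON3

open Cfsg.Agent.Characters.Core
open Cfsg.Agent.H653.Sieve
open Cfsg.Agent.H894.J4Two (apply_eq_of_isConj exists_col_rat exists_col_prime nc_of_card orderOf_of_card
  orderOf_eq_of_isConj isCol_unique sum_sq_comb sum_mul_comb)

universe u

variable {G : Type u} [Group G] [Finite G]

/-- the columns of the primes 11, 19, 31 and of a rational element of order 7 -/
structure Cols (G : Type u) [Group G] [Finite G] [Fintype (IrrCharacter G)] where
  E : IrrCharacter G → ℤ
  S : IrrCharacter G → ℤ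
  R : IrrCharacter G → ℤ
  PE : Subgroup G
  PS : Subgroup G
  PR : Subgroup G
  X : Finset (IrrCharacter G)
  d : ℤ
  pE : Nat.card PE = 11
  pS : Nat.card PS = 19
  pR : Nat.card PR = 31
  cE : IsCol PE 10 E
  cS : IsCol PS 6 S
  cR : IsCol PR 15 R
  qE : ∑ χ, E χ * E χ = 11
  qS : ∑ χ, S χ * S χ = 57
  qR : ∑ χ, R χ * R χ = 62
  qD : ∑ χ : IrrCharacter G, (deg χ : ℤ) * (deg χ : ℤ) = 460815505920
  dE : ∀ χ, (11 : ℤ) ∣ (deg χ : ℤ) + 10 * E χ
  dS : ∀ χ, (19 : ℤ) ∣ (deg χ : ℤ) + 6 * S χ
  dR : ∀ χ, (31 : ℤ) ∣ (deg χ : ℤ) + 15 * R χ
  cardX : X.card = 3
  dX : ∀ χ ∈ X, S χ = d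
  nX : ∀ χ ∉ X, (3 : ℤ) ∣ S χ
  eX : ∀ χ ∈ X, ∀ ψ ∈ X, ∀ g : G, ¬ 19 ∣ orderOf g → (χ : G → ℂ) g = (ψ : G → ℂ) g

theorem exists_cols [Fintype (IrrCharacter G)] (hG : Nat.card G = 460815505920)
    (h11 : ∀ Q : Subgroup G, Nat.card Q = 11 → Nat.card (centralizer (Q : Set G)) = 11 ∧
      Nat.card (normalizer (Q : Set G)) = 11 * 10)
    (h19 : ∀ Q : Subgroup G, Nat.card Q = 19 → Nat.card (centralizer (Q : Set G)) = 19 ∧
      Nat.card (normalizer (Q : Set G)) = 19 * 6)
    (h31 : ∀ Q : Subgroup G, Nat.card Q = 31 → Nat.card (centralizer (Q : Set G)) = 31 ∧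
      Nat.card (normalizer (Q : Set G)) = 31 * 15) : Nonempty (Cols G) := by
  obtain ⟨PE, E, -, -, pE, cE, -, -, -, -, qE, dE⟩ := exists_col_prime (G := G) (p := 11) (e := 10) (t := 1) (by norm_num)
    (by norm_num) (by rw [hG]; norm_num) (by rw [hG]; norm_num) (by norm_num) h11
  obtain ⟨PS, S, X, d, pS, cS, hX, hd, hn, he, qS, dS⟩ := exists_col_prime (G := G) (p := 19) (e := 6) (t := 3)
    (by norm_num) (by norm_num) (by rw [hG]; norm_num) (by rw [hG]; norm_num) (by norm_num) h19
  obtain ⟨PR, R, -, -, pR, cR, -, -, -, -, qR, dR⟩ := exists_col_prime (G := G) (p := 31) (e := 15) (t := 2) (by norm_num)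
    (by norm_num) (by rw [hG]; norm_num) (by rw [hG]; norm_num) (by norm_num) h31
  have qD : ∑ χ : IrrCharacter G, (deg χ : ℤ) * (deg χ : ℤ) = 460815505920 := by
    have h1 := SmallSimple.DegreeData.sum_sq (G := G)
    rw [hG] at h1
    have h2 : ((∑ χ : IrrCharacter G, (charDegree (χ : G → ℂ)) ^ 2 : ℕ) : ℤ) = 460815505920 := by
      rw [h1]; norm_num
    rw [← h2]
    push_cast
    refine Finset.sum_congr rfl fun χ _ => ?_
    simp only [deg]
    ring
  exact ⟨{
    E := E
    S := S
    R := R
    PE := PE
    PS := PS
    PR := PR
    X := X
    d := d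
    pE := pE
    pS := pS
    pR := pR
    cE := cE
    cS := cS
    cR := cR
    qE := by rw [qE]; norm_num
    qS := by rw [qS]; norm_num
    qR := by rw [qR]; norm_num
    qD := qD
    dE := fun χ => by exact_mod_cast dE χ
    dS := fun χ => by exact_mod_cast dS χ
    dR := fun χ => by exact_mod_cast dR χ
    cardX := hX
    dX := hd
    nX := fun χ h => by exact_mod_cast hn χ h
    eX := he }⟩

namespace Cols

variable [Fintype (IrrCharacter G)] (C : Cols G)

include C

theorem oES : ∑ χ, C.E χ * C.S χ = 0 :=
  C.cE.orth C.cS (by norm_num) (by norm_num) (nc_of_card (by norm_num) (by norm_num) (by norm_num) C.pE C.pS)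

theorem oER : ∑ χ, C.E χ * C.R χ = 0 :=
  C.cE.orth C.cR (by norm_num) (by norm_num) (nc_of_card (by norm_num) (by norm_num) (by norm_num) C.pE C.pR)

theorem oSR : ∑ χ, C.S χ * C.R χ = 0 :=
  C.cS.orth C.cR (by norm_num) (by norm_num) (nc_of_card (by norm_num) (by norm_num) (by norm_num) C.pS C.pR)

omit C in
theorem oD {H : Subgroup G} {e : ℕ} {W : IrrCharacter G → ℤ} (hW : IsCol H e W) (he : e ≠ 0) :
    ∑ χ : IrrCharacter G, (deg χ : ℤ) * W χ = 0 := by
  rw [← hW.deg he]
  exact Finset.sum_congr rfl fun χ _ => mul_comm _ _

end Cols

/-- if all elements of `P` are conjugate to the centre then `343 ∣ D - A` : impossible -/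
theorem not_all [Fintype (IrrCharacter G)] (C : Cols G) {z : G} (oz : orderOf z = 7)
    (hz : ∀ w ∈ zpowers z, w ≠ 1 → IsConj w z) (cz : Nat.card (centralizer ({z} : Set G)) = 1372)
    (h : ∀ χ : IrrCharacter G, ∀ A : ℤ, (χ : G → ℂ) z = A → (343 : ℤ) ∣ (deg χ : ℤ) - A) : False := by
  classical
  obtain ⟨A, cA, vA, qA⟩ := exists_col_rat (p := 7) (by norm_num) oz hz
  have pA : Nat.card (zpowers z) = 7 := by rw [Nat.card_zpowers, oz]
  rw [cz] at qA
  have oo : ∀ {K : Subgroup G} {f p : ℕ} {W : IrrCharacter G → ℤ}, IsCol K f W → f ≠ 0 → p.Prime → 7 ≠ p →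
      Nat.card K = p → ∑ χ, A χ * W χ = 0 := by
    intro K f p W hW hf hp h7 hK
    exact cA.orth hW (by norm_num) hf (nc_of_card (by norm_num) hp h7 pA hK)
  have key := sum_sq_comb [((3 : ℤ), fun χ : IrrCharacter G => (deg χ : ℤ)), (-174933, A), (-606081, C.E),
    (116963, C.S), (215061, C.R)] (by
      simp only [List.pairwise_cons, List.mem_cons, List.not_mem_nil, or_false, forall_eq_or_imp, forall_eq,
        IsEmpty.forall_iff, implies_true, List.Pairwise.nil, and_true]
      exact ⟨⟨Cols.oD cA (by norm_num), Cols.oD C.cE (by norm_num), Cols.oD C.cS (by norm_num), Cols.oD C.cR (by norm_num)⟩,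
        ⟨oo C.cE (by norm_num) (by norm_num) (by norm_num) C.pE, oo C.cS (by norm_num) (by norm_num) (by norm_num) C.pS,
          oo C.cR (by norm_num) (by norm_num) (by norm_num) C.pR⟩, ⟨C.oES, C.oER⟩, C.oSR⟩)
  simp only [List.map_cons, List.map_nil, List.sum_cons, List.sum_nil] at key
  rw [C.qD, qA, C.qE, C.qS, C.qR] at key
  have hd : ∀ χ : IrrCharacter G, (2222297 : ℤ) ∣ 3 * (deg χ : ℤ) + (-174933 * A χ + (-606081 * C.E χ +
      (116963 * C.S χ + (215061 * C.R χ + 0)))) := by
    intro χ
    obtain ⟨a, ha⟩ := h χ (A χ) (vA χ)
    obtain ⟨b, hb⟩ := C.dE χ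
    obtain ⟨c, hc⟩ := C.dS χ
    obtain ⟨e, he⟩ := C.dR χ
    have d343 : (343 : ℤ) ∣ 3 * (deg χ : ℤ) + (-174933 * A χ + (-606081 * C.E χ +
        (116963 * C.S χ + (215061 * C.R χ + 0)))) :=
      ⟨3 * a - 510 * A χ + 341 * C.S χ - 1767 * C.E χ + 627 * C.R χ, by linear_combination 3 * ha⟩
    have d11 : (11 : ℤ) ∣ 3 * (deg χ : ℤ) + (-174933 * A χ + (-606081 * C.E χ +
        (116963 * C.S χ + (215061 * C.R χ + 0)))) :=
      ⟨3 * b - 15903 * A χ - 55101 * C.E χ + 10633 * C.S χ + 19551 * C.R χ, by linear_combination 3 * hb⟩
    have d19 : (19 : ℤ) ∣ 3 * (deg χ : ℤ) + (-174933 * A χ + (-606081 * C.E χ +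
        (116963 * C.S χ + (215061 * C.R χ + 0)))) :=
      ⟨3 * c - 9207 * A χ - 31899 * C.E χ + 6155 * C.S χ + 11319 * C.R χ, by linear_combination 3 * hc⟩
    have d31 : (31 : ℤ) ∣ 3 * (deg χ : ℤ) + (-174933 * A χ + (-606081 * C.E χ +
        (116963 * C.S χ + (215061 * C.R χ + 0)))) :=
      ⟨3 * e - 5643 * A χ - 19551 * C.E χ + 3773 * C.S χ + 6936 * C.R χ, by linear_combination 3 * he⟩
    have c1 := IsCoprime.mul_dvd (by norm_num) d343 d11
    have c2 := IsCoprime.mul_dvd (by norm_num) c1 d19
    have c3 := IsCoprime.mul_dvd (by norm_num) c2 d31
    have e6 : (343 : ℤ) * 11 * 19 * 31 = 2222297 := by norm_num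
    rwa [e6] at c3
  choose F hF using hd
  have h2 : ∑ χ : IrrCharacter G, (3 * (deg χ : ℤ) + (-174933 * A χ + (-606081 * C.E χ +
      (116963 * C.S χ + (215061 * C.R χ + 0))))) * (3 * (deg χ : ℤ) + (-174933 * A χ + (-606081 * C.E χ +
      (116963 * C.S χ + (215061 * C.R χ + 0))))) = 2222297 * 2222297 * ∑ χ, F χ * F χ := by
    rw [Finset.mul_sum]
    exact Finset.sum_congr rfl fun χ _ => by rw [hF χ]; ring
  rw [h2] at key
  omega

/-- the local data -/
structure Data (G : Type u) [Group G] : Prop where
  card : Nat.card G = 460815505920
  h11 : ∀ Q : Subgroup G, Nat.card Q = 11 → Nat.card (centralizer (Q : Set G)) = 11 ∧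
    Nat.card (normalizer (Q : Set G)) = 11 * 10
  h19 : ∀ Q : Subgroup G, Nat.card Q = 19 → Nat.card (centralizer (Q : Set G)) = 19 ∧
    Nat.card (normalizer (Q : Set G)) = 19 * 6
  h31 : ∀ Q : Subgroup G, Nat.card Q = 31 → Nat.card (centralizer (Q : Set G)) = 31 ∧
    Nat.card (normalizer (Q : Set G)) = 31 * 15

/-- **the character of degree 207360** -/
theorem exists_charDegree (Δ : Data G) {z b : G} (oz : orderOf z = 7) (ob : orderOf b = 7)
    (hz : ∀ w ∈ zpowers z, w ≠ 1 → IsConj w z) (hb : ∀ w ∈ zpowers b, w ≠ 1 → IsConj w b) (hzb : ¬ IsConj z b)
    (cz : Nat.card (centralizer ({z} : Set G)) = 1372) (cb : Nat.card (centralizer ({b} : Set G)) = 49)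
    (hd : ∀ χ : IrrCharacter G, ∀ A B : ℤ, (χ : G → ℂ) z = A → (χ : G → ℂ) b = B →
      (343 : ℤ) ∣ (deg χ : ℤ) + 174 * A + 168 * B) : ∃ χ : IrrCharacter G, charDegree (χ : G → ℂ) = 207360 := by
  classical
  have := finite_irr (G := G)
  have := Fintype.ofFinite (IrrCharacter G)
  obtain ⟨C⟩ := exists_cols Δ.card Δ.h11 Δ.h19 Δ.h31
  obtain ⟨A, cA, vA, qA⟩ := exists_col_rat (p := 7) (by norm_num) oz hz
  obtain ⟨B, cB, vB, qB⟩ := exists_col_rat (p := 7) (by norm_num) ob hb
  have pA : Nat.card (zpowers z) = 7 := by rw [Nat.card_zpowers, oz]
  have pB : Nat.card (zpowers b) = 7 := by rw [Nat.card_zpowers, ob]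
  rw [cz] at qA
  rw [cb] at qB
  have oA : ∀ {K : Subgroup G} {f p : ℕ} {W : IrrCharacter G → ℤ}, IsCol K f W → f ≠ 0 → p.Prime → 7 ≠ p →
      Nat.card K = p → ∑ χ, A χ * W χ = 0 := by
    intro K f p W hW hf hp h7 hK
    exact cA.orth hW (by norm_num) hf (nc_of_card (by norm_num) hp h7 pA hK)
  have oB : ∀ {K : Subgroup G} {f p : ℕ} {W : IrrCharacter G → ℤ}, IsCol K f W → f ≠ 0 → p.Prime → 7 ≠ p →
      Nat.card K = p → ∑ χ, B χ * W χ = 0 := by
    intro K f p W hW hf hp h7 hK
    exact cB.orth hW (by norm_num) hf (nc_of_card (by norm_num) hp h7 pB hK)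
  have oAB : ∑ χ, A χ * B χ = 0 := by
    refine cA.orth cB (by norm_num) (by norm_num) fun x hx y hy hx1 hy1 h => hzb ?_
    exact ((hz x hx hx1).symm.trans h).trans (hb y hy hy1)
  let D : IrrCharacter G → ℤ := fun χ => (deg χ : ℤ)
  have hort : (((3 : ℤ), D) :: [(-38874, A), (-136059, B), (-606081, C.E), (116963, C.S), (215061, C.R)]).Pairwise
      (fun a b => ∑ i, a.2 i * b.2 i = 0) := by
    simp only [List.pairwise_cons, List.mem_cons, List.not_mem_nil, or_false, forall_eq_or_imp, forall_eq,
      IsEmpty.forall_iff, implies_true, List.Pairwise.nil, and_true]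
    exact ⟨⟨Cols.oD cA (by norm_num), Cols.oD cB (by norm_num), Cols.oD C.cE (by norm_num), Cols.oD C.cS (by norm_num),
      Cols.oD C.cR (by norm_num)⟩,
      ⟨oAB, oA C.cE (by norm_num) (by norm_num) (by norm_num) C.pE, oA C.cS (by norm_num) (by norm_num) (by norm_num) C.pS,
        oA C.cR (by norm_num) (by norm_num) (by norm_num) C.pR⟩,
      ⟨oB C.cE (by norm_num) (by norm_num) (by norm_num) C.pE, oB C.cS (by norm_num) (by norm_num) (by norm_num) C.pS,
        oB C.cR (by norm_num) (by norm_num) (by norm_num) C.pR⟩, ⟨C.oES, C.oER⟩, C.oSR⟩
  have key := sum_sq_comb _ hort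
  simp only [List.map_cons, List.map_nil, List.sum_cons, List.sum_nil] at key
  have qD : ∑ χ, D χ * D χ = 460815505920 := C.qD
  rw [qD, qA, qB, C.qE, C.qS, C.qR] at key
  obtain ⟨Th, hTh⟩ : ∃ Th : IrrCharacter G → ℤ, ∀ χ, Th χ = 3 * D χ + (-38874 * A χ + (-136059 * B χ +
      (-606081 * C.E χ + (116963 * C.S χ + (215061 * C.R χ + 0))))) := ⟨_, fun _ => rfl⟩
  have hdvd : ∀ χ : IrrCharacter G, (2222297 : ℤ) ∣ Th χ := by
    intro χ
    rw [hTh]
    obtain ⟨a, ha⟩ := hd χ (A χ) (B χ) (vA χ) (vB χ)
    obtain ⟨b, hb⟩ := C.dE χ
    obtain ⟨c, hc⟩ := C.dS χ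
    obtain ⟨e, he⟩ := C.dR χ
    have h7A := cA.dvd χ
    have h7B := cB.dvd χ
    rw [pA] at h7A
    rw [pB] at h7B
    obtain ⟨f, hf⟩ := h7A
    obtain ⟨g, hg⟩ := h7B
    change (deg χ : ℤ) + (7 - 1 : ℕ) * A χ = (7 : ℕ) * f at hf
    change (deg χ : ℤ) + (7 - 1 : ℕ) * B χ = (7 : ℕ) * g at hg
    push_cast at hf hg
    have hAB : A χ - B χ = 7 * (A χ - B χ - f + g) := by linear_combination hg - hf
    have d343 : (343 : ℤ) ∣ 3 * D χ + (-38874 * A χ + (-136059 * B χ +
        (-606081 * C.E χ + (116963 * C.S χ + (215061 * C.R χ + 0))))) := by
      exact ⟨3 * a - 115 * A χ - 398 * B χ + (A χ - B χ - f + g) + 341 * C.S χ - 1767 * C.E χ + 627 * C.R χ, by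
        linear_combination 3 * ha + 49 * hAB⟩
    have d11 : (11 : ℤ) ∣ 3 * D χ + (-38874 * A χ + (-136059 * B χ +
        (-606081 * C.E χ + (116963 * C.S χ + (215061 * C.R χ + 0))))) :=
      ⟨3 * b - 3534 * A χ - 12369 * B χ - 55101 * C.E χ + 10633 * C.S χ + 19551 * C.R χ, by linear_combination 3 * hb⟩
    have d19 : (19 : ℤ) ∣ 3 * D χ + (-38874 * A χ + (-136059 * B χ +
        (-606081 * C.E χ + (116963 * C.S χ + (215061 * C.R χ + 0))))) :=
      ⟨3 * c - 2046 * A χ - 7161 * B χ - 31899 * C.E χ + 6155 * C.S χ + 11319 * C.R χ, by linear_combination 3 * hc⟩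
    have d31 : (31 : ℤ) ∣ 3 * D χ + (-38874 * A χ + (-136059 * B χ +
        (-606081 * C.E χ + (116963 * C.S χ + (215061 * C.R χ + 0))))) :=
      ⟨3 * e - 1254 * A χ - 4389 * B χ - 19551 * C.E χ + 3773 * C.S χ + 6936 * C.R χ, by linear_combination 3 * he⟩
    have c1 := IsCoprime.mul_dvd (by norm_num) d343 d11
    have c2 := IsCoprime.mul_dvd (by norm_num) c1 d19
    have c3 := IsCoprime.mul_dvd (by norm_num) c2 d31
    have e6 : (343 : ℤ) * 11 * 19 * 31 = 2222297 := by norm_num
    rwa [e6] at c3
  choose v hv using hdvd
  have hsq : ∑ χ, v χ * v χ = 3 := by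
    have h2 : ∑ χ, Th χ * Th χ = 2222297 * 2222297 * ∑ χ, v χ * v χ := by
      rw [Finset.mul_sum]
      exact Finset.sum_congr rfl fun χ _ => by rw [hv χ]; ring
    have h3 : ∑ χ, Th χ * Th χ = 3 * 2222297 * 2222297 := by
      simp only [hTh]
      rw [key]
      norm_num
    rw [h3] at h2
    omega
  have hout : ∀ χ ∉ C.X, (3 : ℤ) ∣ v χ := by
    intro χ hχ
    obtain ⟨s, hs⟩ := C.nX χ hχ
    have h1 := hv χ
    rw [hTh, hs] at h1
    have h2 : (3 : ℤ) ∣ 2222297 * v χ := ⟨D χ - 12958 * A χ - 45353 * B χ - 202027 * C.E χ + 116963 * s + 71687 * C.R χ, by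
      rw [← h1]; ring⟩
    exact (IsCoprime.dvd_of_dvd_mul_left (by norm_num) h2)
  have hin : ∀ χ ∈ C.X, ∀ ψ ∈ C.X, v χ = v ψ := by
    intro χ hχ ψ hψ
    have ho : ∀ {q : ℕ}, q.Prime → q ≠ 19 → ∀ {H : Subgroup G}, Nat.card H = q → ∀ w ∈ H,
        (χ : G → ℂ) w = (ψ : G → ℂ) w := by
      intro q hq hq19 H hH w hw
      apply C.eX χ hχ ψ hψ
      intro h19
      by_cases hw1 : w = 1
      · rw [hw1, orderOf_one] at h19
        norm_num at h19
      · rw [orderOf_of_card hq hH hw hw1] at h19
        exact hq19 ((Nat.prime_dvd_prime_iff_eq (by norm_num) hq).1 h19).symm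
    have eA : A χ = A ψ := isCol_unique (by norm_num) cA (ho (by norm_num) (by norm_num) pA)
    have eB : B χ = B ψ := isCol_unique (by norm_num) cB (ho (by norm_num) (by norm_num) pB)
    have eE : C.E χ = C.E ψ := isCol_unique (by norm_num) C.cE (ho (by norm_num) (by norm_num) C.pE)
    have eR : C.R χ = C.R ψ := isCol_unique (by norm_num) C.cR (ho (by norm_num) (by norm_num) C.pR)
    have eS : C.S χ = C.S ψ := by rw [C.dX χ hχ, C.dX ψ hψ]
    have eD : D χ = D ψ := by
      have h1 := C.eX χ hχ ψ hψ 1 (by rw [orderOf_one]; norm_num)
      rw [deg_cast, deg_cast] at h1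
      have h2 : deg χ = deg ψ := by exact_mod_cast h1
      show (deg χ : ℤ) = deg ψ
      rw [h2]
    have h1 := hv χ
    rw [hTh, eD, eA, eB, eE, eS, eR, ← hTh, hv ψ] at h1
    omega
  obtain ⟨χ₀, hχ₀⟩ : C.X.Nonempty := by
    rw [← Finset.card_pos, C.cardX]; norm_num
  have hsum : ∑ χ, v χ * v χ = 3 * (v χ₀ * v χ₀) + ∑ χ ∈ Finset.univ \ C.X, v χ * v χ := by
    rw [← Finset.sum_sdiff (Finset.subset_univ C.X), add_comm]
    congr 1
    rw [Finset.sum_congr rfl (g := fun _ => v χ₀ * v χ₀) fun χ hχ => by rw [hin χ hχ χ₀ hχ₀], Finset.sum_const, C.cardX]
    simp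
  have h9 : (9 : ℤ) ∣ ∑ χ ∈ Finset.univ \ C.X, v χ * v χ := by
    refine Finset.dvd_sum fun χ hχ => ?_
    obtain ⟨k, hk⟩ := hout χ (Finset.mem_sdiff.1 hχ).2
    exact ⟨k * k, by rw [hk]; ring⟩
  have hnn : 0 ≤ ∑ χ ∈ Finset.univ \ C.X, v χ * v χ := Finset.sum_nonneg fun j _ => mul_self_nonneg _
  have hv0 : v χ₀ * v χ₀ = 1 ∧ ∑ χ ∈ Finset.univ \ C.X, v χ * v χ = 0 := by
    obtain ⟨k, hk⟩ := h9
    have h1 := mul_self_nonneg (v χ₀)
    rw [hsq, hk] at hsum
    rw [hk] at hnn ⊢
    constructor <;> omega
  have hz0 : ∀ χ ∉ C.X, v χ = 0 := by
    intro χ hχ
    have h1 := (Finset.sum_eq_zero_iff_of_nonneg (fun j _ => mul_self_nonneg (v j))).1 hv0.2 χ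
      (Finset.mem_sdiff.2 ⟨Finset.mem_univ _, hχ⟩)
    exact mul_self_eq_zero.1 h1
  have hDD : ∀ χ ∈ C.X, D χ = D χ₀ := by
    intro χ hχ
    have h1 := C.eX χ hχ χ₀ hχ₀ 1 (by rw [orderOf_one]; norm_num)
    rw [deg_cast, deg_cast] at h1
    have h2 : deg χ = deg χ₀ := by exact_mod_cast h1
    show (deg χ : ℤ) = deg χ₀
    rw [h2]
  have hfin : 3 * (D χ₀ * (2222297 * v χ₀)) = 3 * 460815505920 := by
    have h1 : ∑ χ, D χ * Th χ = 3 * 460815505920 := by
      have hD := (List.pairwise_cons.1 hort).1
      have h2 := sum_mul_comb D [(-38874, A), (-136059, B), (-606081, C.E), (116963, C.S), (215061, C.R)]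
        (fun b hb => hD b hb)
      simp only [List.map_cons, List.map_nil, List.sum_cons, List.sum_nil] at h2
      have h3 : ∀ χ, D χ * Th χ = 3 * (D χ * D χ) + D χ * (-38874 * A χ + (-136059 * B χ +
          (-606081 * C.E χ + (116963 * C.S χ + (215061 * C.R χ + 0))))) := fun χ => by rw [hTh]; ring
      rw [Finset.sum_congr rfl fun χ _ => h3 χ, Finset.sum_add_distrib, h2, ← Finset.mul_sum, qD]
      norm_num
    rw [← h1, ← Finset.sum_sdiff (Finset.subset_univ C.X), Finset.sum_eq_zero (s := Finset.univ \ C.X), zero_add,
      Finset.sum_congr rfl (g := fun _ => D χ₀ * (2222297 * v χ₀)), Finset.sum_const, C.cardX]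
    · simp
    · intro χ hχ
      rw [hv, hDD χ hχ, hin χ hχ χ₀ hχ₀]
    · intro χ hχ
      rw [hv, hz0 χ (Finset.mem_sdiff.1 hχ).2, mul_zero, mul_zero]
  refine ⟨χ₀, ?_⟩
  have hpos : (0 : ℤ) ≤ D χ₀ := Int.natCast_nonneg _
  have h1 : v χ₀ = 1 := by
    rcases mul_self_eq_one_iff.1 hv0.1 with h | h
    · exact h
    · rw [h] at hfin
      omega
  rw [h1] at hfin
  have h2 : (deg χ₀ : ℤ) = 207360 := by
    change (3 : ℤ) * ((deg χ₀ : ℤ) * (2222297 * 1)) = _ at hfin
    omega
  exact_mod_cast h2

end Cfsg.Agent.H266.ON3
end

-- part: H210/ON3/Cent
section
/-!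
# The centralizers of the elements of order 7 of the O'Nan group (helper210)
-/

set_option autoImplicit false
set_option maxRecDepth 100000

namespace Cfsg.Agent.H210.ON3

open Subgroup Cfsg
open Cfsg.Spor (ON)
open Cfsg.Agent.SporadicB.ON45Word (on)
open Cfsg.Agent.KFacts.ON.Struct
open Cfsg.Agent.KFacts.ON.Cent (hON finite_ON cen card_K0 card_cent)
open Cfsg.Agent.ONType.TupK (K0)
open Cfsg.Agent.H474.ONC
open Cfsg.Agent.H266.ON3

theorem card_cent_of_isConj {G : Type*} [Group G] {x y : G} (h : IsConj x y) :
    Nat.card (centralizer ({x} : Set G)) = Nat.card (centralizer ({y} : Set G)) := by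
  obtain ⟨g, rfl⟩ := isConj_iff.1 h
  refine Nat.card_congr ⟨fun a => ⟨g * a * g⁻¹, ?_⟩, fun a => ⟨g⁻¹ * a * g, ?_⟩, fun a => ?_, fun a => ?_⟩
  · have := mem_centralizer_singleton_iff.1 a.2
    rw [mem_centralizer_singleton_iff]
    calc g * a * g⁻¹ * (g * x * g⁻¹) = g * (a * x) * g⁻¹ := by group
      _ = g * (x * a) * g⁻¹ := by rw [this]
      _ = _ := by group
  · have h4 := mem_centralizer_singleton_iff.1 a.2
    rw [mem_centralizer_singleton_iff]
    calc g⁻¹ * a * g * x = g⁻¹ * (a * (g * x * g⁻¹)) * g := by group
      _ = g⁻¹ * ((g * x * g⁻¹) * a) * g := by rw [h4]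
      _ = _ := by group
  · apply Subtype.ext
    change g⁻¹ * (g * (a : G) * g⁻¹) * g = a
    group
  · apply Subtype.ext
    change g * (g⁻¹ * (a : G) * g) * g⁻¹ = a
    group

/-- centralizer orders not divisible by `2, 3, 5, 11, 19, 31` -/
theorem no_nineteen' {x : ON} (hx : orderOf x = 7) : ¬ 19 ∣ Nat.card ↥(centralizer ({x} : Set ON)) := by
  have hfin := finite_ON
  intro h
  obtain ⟨u, hu, hux⟩ := exists_comm (by norm_num : Nat.Prime 19) h
  have h1 := dvd_cent hux.symm
  rw [On7.card_cent_nineteen hu, hx] at h1
  norm_num at h1

theorem no_thirtyone' {x : ON} (hx : orderOf x = 7) : ¬ 31 ∣ Nat.card ↥(centralizer ({x} : Set ON)) := by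
  have hfin := finite_ON
  intro h
  obtain ⟨u, hu, hux⟩ := exists_comm (by norm_num : Nat.Prime 31) h
  have h1 := dvd_cent hux.symm
  rw [(On7.thirtyone hu).1, hx] at h1
  norm_num at h1

/-- the order of the centralizer of an element of order 7 -/
theorem shape7 {x : ON} (hx : orderOf x = 7) : ∃ a d : ℕ, d ≤ 3 ∧
    Nat.card ↥(centralizer ({x} : Set ON)) = 2 ^ a * 7 ^ d := by
  have hfin := finite_ON
  have h3 : ¬ 3 ∣ Nat.card ↥(centralizer ({x} : Set ON)) := On7.no_three hx (by norm_num)
  have h5 : ¬ 5 ∣ Nat.card ↥(centralizer ({x} : Set ON)) := no_five hx (by norm_num)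
  have h11 : ¬ 11 ∣ Nat.card ↥(centralizer ({x} : Set ON)) := no_eleven hx (by norm_num)
  have h19 := no_nineteen' hx
  have h31 := no_thirtyone' hx
  obtain ⟨a, b, c, d, e, f, g, ha, hb, hc, hd, he, hf, hg, hs⟩ := shape (cent_dvd x)
  rw [hs] at h3 h5 h11 h19 h31
  have hb0 : b = 0 := by
    by_contra h
    apply h3
    obtain ⟨k, rfl⟩ := Nat.exists_eq_succ_of_ne_zero h
    exact ⟨2 ^ a * (3 ^ k * (5 ^ c * (7 ^ d * (11 ^ e * (19 ^ f * 31 ^ g))))), by rw [pow_succ]; ring⟩
  have hc0 : c = 0 := by
    by_contra h
    apply h5
    obtain ⟨k, rfl⟩ := Nat.exists_eq_succ_of_ne_zero h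
    exact ⟨2 ^ a * (3 ^ b * (5 ^ k * (7 ^ d * (11 ^ e * (19 ^ f * 31 ^ g))))), by rw [pow_succ]; ring⟩
  have he0 : e = 0 := by
    by_contra h
    apply h11
    obtain ⟨k, rfl⟩ := Nat.exists_eq_succ_of_ne_zero h
    exact ⟨2 ^ a * (3 ^ b * (5 ^ c * (7 ^ d * (11 ^ k * (19 ^ f * 31 ^ g))))), by rw [pow_succ]; ring⟩
  have hf0 : f = 0 := by
    by_contra h
    apply h19
    obtain ⟨k, rfl⟩ := Nat.exists_eq_succ_of_ne_zero h
    exact ⟨2 ^ a * (3 ^ b * (5 ^ c * (7 ^ d * (11 ^ e * (19 ^ k * 31 ^ g))))), by rw [pow_succ]; ring⟩
  have hg0 : g = 0 := by
    by_contra h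
    apply h31
    obtain ⟨k, rfl⟩ := Nat.exists_eq_succ_of_ne_zero h
    exact ⟨2 ^ a * (3 ^ b * (5 ^ c * (7 ^ d * (11 ^ e * (19 ^ f * 31 ^ k))))), by rw [pow_succ]; ring⟩
  subst hb0 hc0 he0 hf0 hg0
  exact ⟨a, d, hd, by rw [hs]; ring⟩

theorem card_x7 : Nat.card (centralizer ({x7} : Set ON)) = 1372 := by
  have hfin := finite_ON
  obtain ⟨a, d, hd, hs⟩ := shape7 order_x7
  obtain ⟨M, -, -, hodd, hc, -⟩ := loc7.exists_compl
  have h343 := n7_343
  rw [hs] at h343 hc ⊢
  have hd3 : d = 3 := by
    have h1 : Nat.Coprime (7 ^ 3) (2 ^ a) := Nat.Coprime.pow _ _ (by norm_num)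
    have h2 : 7 ^ 3 ∣ 7 ^ d := h1.dvd_of_dvd_mul_left (by norm_num; exact h343)
    have h3 := (Nat.pow_dvd_pow_iff_le_right (by norm_num : 1 < 7)).1 h2
    omega
  subst hd3
  have ha2 : a = 2 := by
    rcases a with _ | _ | _ | a
    · exfalso; omega
    · exfalso; rw [zero_add, pow_one] at hc; omega
    · rfl
    · exfalso
      rw [pow_succ, pow_succ, pow_succ] at hc
      have h4 : 2 ∣ Nat.card M := ⟨2 ^ a * 343, by
        have : 4 * Nat.card M = 4 * (2 * (2 ^ a * 343)) := by rw [← hc]; ring
        omega⟩
      exact (Nat.not_even_iff_odd.2 hodd) (even_iff_two_dvd.2 h4)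
  subst ha2
  norm_num

/-- an element of order 7 commuting with an involution -/
theorem conj_x7 {x t : ON} (hx : orderOf x = 7) (ht : orderOf t = 2) (h : t * x = x * t) : IsConj x x7 := by
  have hfin := finite_ON
  have h7F : Fact (Nat.Prime 7) := ⟨by norm_num⟩
  obtain ⟨c, hc⟩ := isConj_iff.1 (KFacts.ON.OneClass.one_class (w := t) (by rw [← pow_two, ← ht, pow_orderOf_eq_one])
    (by rintro rfl; rw [orderOf_one] at ht; norm_num at ht))
  have hyK : c * x * c⁻¹ ∈ K0 := by
    rw [mem_K0, ← hc]
    calc c * x * c⁻¹ * (c * t * c⁻¹) = c * (x * t) * c⁻¹ := by group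
      _ = c * (t * x) * c⁻¹ := by rw [h]
      _ = c * t * c⁻¹ * (c * x * c⁻¹) := by group
  have hy : orderOf (⟨c * x * c⁻¹, hyK⟩ : K0) = 7 := by
    rw [← orderOf_coe, ← hx]
    exact orderOf_injective (MulAut.conj c).toMonoidHom (MulAut.conj c).injective x
  have hx0 : orderOf (⟨x7, CpAutON.Seven.x0_mem⟩ : K0) = 7 := by
    rw [← orderOf_coe]; exact order_x7
  obtain ⟨g, hg⟩ := CpAutON.Gen.conj_into (G := K0) (p := 7) (by rw [card_K0]; norm_num) hy hx0
  rw [← mem_powers_iff_mem_zpowers] at hg
  obtain ⟨n, hn⟩ := hg
  have hn' : x7 ^ n = (g : ON) * (c * x * c⁻¹) * (g : ON)⁻¹ := congrArg Subtype.val hn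
  have h1 : IsConj x (x7 ^ n) := by
    rw [isConj_iff]
    exact ⟨(g : ON) * c, by rw [hn']; group⟩
  have h2 : IsConj (x7 ^ 3) x7 := (isConj_iff.2 ⟨_, CpAutON.Seven.y0_conj⟩ : IsConj x7 (x7 ^ 3)).symm
  refine h1.trans (conj_all CpAutON.Seven.x0_pow h2 (ne_of_isConj h1 ?_))
  rintro rfl
  rw [orderOf_one] at hx
  norm_num at hx

theorem order_C : orderOf C = 7 := by
  have : Fact (Nat.Prime 7) := ⟨by norm_num⟩
  exact orderOf_eq_prime rel.c7 C_ne

theorem order_B : orderOf B = 7 := by
  have : Fact (Nat.Prime 7) := ⟨by norm_num⟩
  exact orderOf_eq_prime cj.b7 B_ne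

theorem C_x7 : IsConj C x7 := by
  have : Fact (Nat.Prime 2) := ⟨by norm_num⟩
  refine conj_x7 (t := E4 ^ 2) order_C (orderOf_eq_prime ?_ E4_ne) ?_
  · rw [← pow_mul]; exact E4_pow
  · exact ((show Commute E4 C from E4_comm).pow_left 2).eq

theorem card_C : Nat.card (centralizer ({C} : Set ON)) = 1372 := by
  rw [card_cent_of_isConj C_x7, card_x7]

theorem conj_C {w : ON} (hw : w ∈ zpowers C) (h1 : w ≠ 1) : IsConj w C := by
  have hfin := finite_ON
  rw [← mem_powers_iff_mem_zpowers] at hw
  obtain ⟨n, rfl⟩ := hw
  exact conj_all rel.c7 cj.cc h1

theorem conj_B {w : ON} (hw : w ∈ zpowers B) (h1 : w ≠ 1) : IsConj w B := by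
  have hfin := finite_ON
  rw [← mem_powers_iff_mem_zpowers] at hw
  obtain ⟨n, rfl⟩ := hw
  exact conj_all cj.b7 cj.bb h1

/-! ### the sum over the Sylow subgroup -/

open Cfsg.Agent.Characters.Core
open Cfsg.Agent.H653.Sieve
open Cfsg.Agent.H894.J4Two (apply_eq_of_isConj)

theorem dvd_343 (χ : IrrCharacter ON) (A B' : ℤ) (hA : (χ : ON → ℂ) C = A) (hB : (χ : ON → ℂ) B = B') :
    (343 : ℤ) ∣ (deg χ : ℤ) + 174 * A + 168 * B' := by
  have hfin := finite_ON
  classical
  have := finite_irr (G := ON)
  have := Fintype.ofFinite (IrrCharacter ON)
  have hinj := phi_injective rel C_ne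
  let e := MonoidHom.ofInjective hinj
  have := Fintype.ofFinite (phi rel).range
  obtain ⟨m, hm⟩ := SmallSimple.TheoremBCor.exists_sum_eq (isIrr_isCharacter χ.2) (phi rel).range
  have hcard : Nat.card (phi rel).range = 343 := by
    rw [← Nat.card_congr e.toEquiv, H7.card]
  have h1 : ∑ x : (phi rel).range, (χ : ON → ℂ) x = ∑ g : H7, (χ : ON → ℂ) (phi rel g) :=
    (Fintype.sum_equiv e.toEquiv _ _ fun g => rfl).symm
  have h2 : ∑ g : H7, (χ : ON → ℂ) (phi rel g) = ∑ g : H7, ((if ty g = 0 then ((deg χ : ℤ) : ℂ) else 0) +
      (if ty g = 1 then (A : ℂ) else 0) + (if ty g = 2 then (B' : ℂ) else 0)) := by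
    refine Finset.sum_congr rfl fun g _ => ?_
    obtain ⟨c0, c1, c2⟩ := cj.cls g
    have h3 : ty g = 0 ∨ ty g = 1 ∨ ty g = 2 := by
      have : ∀ i : Fin 3, i = 0 ∨ i = 1 ∨ i = 2 := by decide
      exact this _
    rcases h3 with h | h | h
    · rw [show phi rel g = 1 from c0 h, deg_cast, h]
      simp
    · rw [apply_eq_of_isConj χ.2 (show IsConj (phi rel g) C from c1 h), hA, h]
      simp
    · rw [apply_eq_of_isConj χ.2 (show IsConj (phi rel g) B from c2 h), hB, h]
      simp
  rw [h1, h2, Finset.sum_add_distrib, Finset.sum_add_distrib, ← Finset.sum_filter, ← Finset.sum_filter,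
    ← Finset.sum_filter, Finset.sum_const, Finset.sum_const, Finset.sum_const, card_ty.1, card_ty.2.1, card_ty.2.2,
    hcard] at hm
  refine ⟨m, ?_⟩
  have h6 : (((deg χ : ℤ) + 174 * A + 168 * B' : ℤ) : ℂ) = ((343 * m : ℤ) : ℂ) := by
    push_cast
    simp only [nsmul_eq_mul] at hm
    push_cast at hm
    linear_combination hm
  exact_mod_cast h6

theorem not_conj : ¬ IsConj C B := by
  have hfin := finite_ON
  intro h
  have := finite_irr (G := ON)
  have := Fintype.ofFinite (IrrCharacter ON)
  obtain ⟨K⟩ := exists_cols (G := ON) card_ON On7.h11 On7.h19 On7.h31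
  refine not_all K order_C (fun w hw h1 => conj_C hw h1) card_C fun χ A hA => ?_
  have h1 := dvd_343 χ A A hA (by rw [← apply_eq_of_isConj χ.2 h, hA])
  obtain ⟨k, hk⟩ := h1
  exact ⟨k - A, by linear_combination hk⟩

/-- the elements of the centre of `P` -/
theorem central {u : ON} (hu : u ∈ (phi rel).range) (hc : ∀ g ∈ (phi rel).range, g * u = u * g) (h1 : u ≠ 1) :
    IsConj u C := by
  obtain ⟨g, rfl⟩ := hu
  have hinj := phi_injective rel C_ne
  have h2 : ∀ j : H7, j * g = g * j := by
    intro j
    apply hinj
    rw [map_mul, map_mul]
    exact hc _ ⟨j, rfl⟩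
  have hb : g.b = 0 := by
    have h3 := congrArg H7.k (h2 ⟨1, 0, 0⟩)
    rw [H7.mul_def, H7.mul_def] at h3
    simp only at h3
    linear_combination h3
  have ha : g.a = 0 := by
    have h3 := congrArg H7.k (h2 ⟨0, 1, 0⟩)
    rw [H7.mul_def, H7.mul_def] at h3
    simp only at h3
    linear_combination -h3
  refine (cj.cls g).2.1 ?_
  unfold ty
  rw [if_neg, if_neg]
  · rintro ⟨h, -⟩
    exact h ha
  · rintro rfl
    exact h1 (map_one _)

theorem card_B : Nat.card (centralizer ({B} : Set ON)) = 49 := by
  have hfin := finite_ON
  have h7F : Fact (Nat.Prime 7) := ⟨by norm_num⟩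
  obtain ⟨a, d, hd, hs⟩ := shape7 order_B
  have h2 : ¬ 2 ∣ Nat.card (centralizer ({B} : Set ON)) := by
    intro h
    obtain ⟨t, ht, htB⟩ := exists_comm (by norm_num : Nat.Prime 2) h
    exact not_conj (C_x7.trans (conj_x7 order_B ht htB).symm)
  have ha0 : a = 0 := by
    by_contra h
    apply h2
    obtain ⟨k, rfl⟩ := Nat.exists_eq_succ_of_ne_zero h
    exact ⟨2 ^ k * 7 ^ d, by rw [hs, pow_succ]; ring⟩
  subst ha0
  rw [pow_zero, one_mul] at hs
  have hCB : C * B = B * C := by
    have h1 : Commute C B := (show Commute C X from rel.cx).mul_right (show Commute C Y from rel.cy)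
    exact h1.eq
  -- not `7`
  have hd1 : 2 ≤ d := by
    by_contra h
    have h3 : zpowers B = centralizer ({B} : Set ON) := by
      refine eq_of_le_of_card_ge ?_ ?_
      · rw [zpowers_le]; exact mem_cent.2 rfl
      · rw [Nat.card_zpowers, order_B, hs]
        calc 7 ^ d ≤ 7 ^ 1 := Nat.pow_le_pow_right (by norm_num) (by omega)
          _ = 7 := by norm_num
    have h4 : C ∈ zpowers B := by
      rw [h3]; exact mem_cent.2 hCB
    exact not_conj (conj_B h4 C_ne)
  -- not `343`
  have hd3 : d ≠ 3 := by
    rintro rfl
    have hP : IsPGroup 7 (phi rel).range := by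
      refine IsPGroup.of_card (n := 3) ?_
      rw [← Nat.card_congr (MonoidHom.ofInjective (phi_injective rel C_ne)).toEquiv, H7.card]
      norm_num
    obtain ⟨P1, hP1⟩ := hP.exists_le_sylow
    have hPe : (phi rel).range = (P1 : Subgroup ON) := by
      refine eq_of_le_of_card_ge hP1 ?_
      have := card_sylow_seven P1
      rw [← Nat.card_congr (MonoidHom.ofInjective (phi_injective rel C_ne)).toEquiv, H7.card]
      exact this.le
    obtain ⟨Q1, hQ1⟩ := (IsPGroup.of_card (p := 7) (n := 3) hs).exists_le_sylow
    have hQe : centralizer ({B} : Set ON) = (Q1 : Subgroup ON) := by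
      refine eq_of_le_of_card_ge hQ1 ?_
      have := card_sylow_seven Q1
      rw [hs]
      exact this.le
    obtain ⟨g, hg⟩ := MulAction.exists_smul_eq ON P1 Q1
    have hQg : ∀ b : ON, b ∈ (P1 : Subgroup ON) ↔ g * b * g⁻¹ ∈ (Q1 : Subgroup ON) := by
      intro b
      rw [← hg]
      constructor
      · intro hb
        exact ⟨b, hb, rfl⟩
      · rintro ⟨a, ha, hab⟩
        have hab' : g * a * g⁻¹ = g * b * g⁻¹ := hab
        have := mul_left_cancel (mul_right_cancel hab')
        rw [← this]; exact ha
    have h5 : g⁻¹ * B * g ∈ (phi rel).range := by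
      rw [hPe, hQg, ← hQe]
      have : g * (g⁻¹ * B * g) * g⁻¹ = B := by group
      rw [this]
      exact mem_cent.2 rfl
    have h6 := central h5 (fun p hp => by
      rw [hPe, hQg, ← hQe] at hp
      have h7 := mem_cent.1 hp
      calc p * (g⁻¹ * B * g) = g⁻¹ * (g * p * g⁻¹ * B) * g := by group
        _ = g⁻¹ * (B * (g * p * g⁻¹)) * g := by rw [h7]
        _ = _ := by group) (by
      intro h
      apply B_ne
      calc B = g * (g⁻¹ * B * g) * g⁻¹ := by group
        _ = 1 := by rw [h]; group)
    refine not_conj (h6.symm.trans (isConj_iff.2 ⟨g, by group⟩))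
  have hd2 : d = 2 := by omega
  rw [hs, hd2]
  norm_num

/-- **the character of degree 207360 of the O'Nan group** -/
theorem exists_charDegree : ∃ χ : IrrCharacter ON, charDegree (χ : ON → ℂ) = 207360 := by
  have hfin := finite_ON
  exact H266.ON3.exists_charDegree ⟨card_ON, On7.h11, On7.h19, On7.h31⟩ order_C order_B (fun w hw h1 => conj_C hw h1)
    (fun w hw h1 => conj_B hw h1) not_conj card_C card_B dvd_343

end Cfsg.Agent.H210.ON3
end

private theorem dce_e7a67eed706b : _root_.True := by
  try have : _root_.True := by simp only [_root_.Cfsg.Agent.H266.ON3.phi.congr_simp]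
  try have : _root_.True := by simp only [_root_.Cfsg.Agent.H210.ON3.Y.eq_1]
  try have : _root_.True := by simp only [_root_.Cfsg.Agent.H210.ON3.X.eq_1]
  try have : _root_.True := by simp only [_root_.Cfsg.Agent.H210.ON3.C.eq_1]
  try have : _root_.True := by simp only [_root_.Cfsg.Agent.H210.ON3.B.eq_1]
  try have : _root_.True := by simp only [_root_.Cfsg.Agent.H210.ON3.E4.eq_1]
  exact _root_.True.intro
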